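import Mathlib
import Cfsg.Agent.Lib.Fusion.SylIn
import Cfsg.Agent.Lib.AbelianFixed.Sylow

/-!
Small facts about `p`-subgroups used for the failure of `Z(J(S))` to control strong fusion.
-/

set_option linter.all false
set_option autoImplicit false

namespace Cfsg.Agent.PLocal.ZJFailure

open Subgroup
open Cfsg.Agent.Fusion.SylIn

variable {G : Type*} [Group G]

/-- The conjugate `g X g⁻¹`. -/
abbrev cnj (g : G) (X : Subgroup G) : Subgroup G := X.map (MulAut.conj g).toMonoidHom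

theorem mem_cnj {g x : G} {X : Subgroup G} : x ∈ cnj g X ↔ g⁻¹ * x * g ∈ X := by
  constructor
  · rintro ⟨y, hy, rfl⟩
    simpa [mul_assoc] using hy
  · intro h
    exact ⟨_, h, by simp [mul_assoc]⟩

theorem conj_mem_cnj {g x : G} {X : Subgroup G} (hx : x ∈ X) : g * x * g⁻¹ ∈ cnj g X :=
  ⟨x, hx, rfl⟩

theorem cnj_le_iff {g : G} {X Y : Subgroup G} :
    cnj g X ≤ Y ↔ ∀ x ∈ X, g * x * g⁻¹ ∈ Y := by
  constructor
  · exact fun h x hx => h (conj_mem_cnj hx)
  · rintro h _ ⟨x, hx, rfl⟩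
    exact h x hx

theorem cnj_mono {g : G} {X Y : Subgroup G} (h : X ≤ Y) : cnj g X ≤ cnj g Y := map_mono h

theorem cnj_one (X : Subgroup G) : cnj 1 X = X := by
  ext x; simp [mem_cnj]

theorem cnj_cnj (g h : G) (X : Subgroup G) : cnj g (cnj h X) = cnj (g * h) X := by
  ext x; simp [mem_cnj, mul_assoc]

theorem card_cnj (g : G) (X : Subgroup G) : Nat.card (cnj g X) = Nat.card X :=
  (Nat.card_congr (X.equivMapOfInjective _ (MulAut.conj g).injective).toEquiv).symm

theorem cnj_normalizer (g : G) (X : Subgroup G) :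
    cnj g (normalizer (X : Set G)) = normalizer (cnj g X : Set G) :=
  map_equiv_normalizer_eq X (MulAut.conj g)

variable [Finite G]

theorem mem_normalizer_of {X : Subgroup G} {g : G} (h : ∀ x ∈ X, g * x * g⁻¹ ∈ X) :
    g ∈ normalizer (X : Set G) := by
  have he : cnj g X = X := eq_of_le_of_card_ge (cnj_le_iff.mpr h) (card_cnj g X).ge
  refine mem_normalizer_iff.mpr fun x => ⟨h x, fun hx => ?_⟩
  have h2 : g * x * g⁻¹ ∈ cnj g X := he.symm ▸ hx
  simpa [mem_cnj, mul_assoc] using h2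

theorem le_normalizer_of {A X : Subgroup G} (h : ∀ a ∈ A, ∀ x ∈ X, a * x * a⁻¹ ∈ X) :
    A ≤ normalizer (X : Set G) := fun a ha => mem_normalizer_of (h a ha)

omit [Finite G] in
theorem conj_mem {X : Subgroup G} {g x : G} (hg : g ∈ normalizer (X : Set G)) (hx : x ∈ X) :
    g * x * g⁻¹ ∈ X :=
  (mem_normalizer_iff.mp hg x).mp hx

omit [Finite G] in
theorem inv_conj_mem {X : Subgroup G} {g x : G} (hg : g ∈ normalizer (X : Set G)) (hx : x ∈ X) :
    g⁻¹ * x * g ∈ X := by
  simpa using conj_mem (inv_mem hg) hx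

omit [Finite G] in
theorem normalizer_sup_le {g : G} {X Y : Subgroup G} (hX : g ∈ normalizer (X : Set G))
    (hY : g ∈ normalizer (Y : Set G)) : g ∈ normalizer ((X ⊔ Y : Subgroup G) : Set G) := by
  have eX := map_conj_eq hX
  have eY := map_conj_eq hY
  refine mem_normalizer_iff.mpr fun x => ?_
  conv_rhs => rw [← eX, ← eY, ← Subgroup.map_sup]
  simp [mem_cnj, mul_assoc]
where
  map_conj_eq {Z : Subgroup G} (hZ : g ∈ normalizer (Z : Set G)) : cnj g Z = Z := by
    ext x
    rw [mem_cnj]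
    exact ⟨fun h => by simpa [mul_assoc] using conj_mem hZ h, fun h => inv_conj_mem hZ h⟩

theorem mem_normalizer_centralizer {X : Subgroup G} {g : G} (hg : g ∈ normalizer (X : Set G)) :
    g ∈ normalizer (centralizer (X : Set G) : Set G) := by
  refine mem_normalizer_of fun c hc => mem_centralizer_iff.mpr fun x hx => ?_
  have h := mem_centralizer_iff.mp hc _ (inv_conj_mem hg hx)
  calc x * (g * c * g⁻¹) = g * ((g⁻¹ * x * g) * c) * g⁻¹ := by group
    _ = g * (c * (g⁻¹ * x * g)) * g⁻¹ := by rw [h]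
    _ = g * c * g⁻¹ * x := by group

theorem mem_normalizer_inf {X Y : Subgroup G} {g : G} (hX : g ∈ normalizer (X : Set G))
    (hY : g ∈ normalizer (Y : Set G)) : g ∈ normalizer ((X ⊓ Y : Subgroup G) : Set G) :=
  mem_normalizer_of fun _ hx => ⟨conj_mem hX hx.1, conj_mem hY hx.2⟩

variable {p : ℕ} [Fact p.Prime]

/-- Frattini argument. -/
theorem frattini {N M P : Subgroup G} (hM : M ≤ normalizer (N : Set G))
    (hP : SylIn p P N) {g : G} (hg : g ∈ M) :
    ∃ k ∈ N, k * g ∈ normalizer (P : Set G) := by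
  have hle : cnj g P ≤ N := cnj_le_iff.mpr fun x hx => conj_mem (hM hg) (hP.1 hx)
  obtain ⟨b, hb, hbP⟩ := hP.exists_conj hle (hP.2.1.map _)
  rw [Fusion.Basic.img_cj] at hbP
  refine ⟨b, hb, mem_normalizer_of fun x hx => ?_⟩
  have := hbP ⟨_, conj_mem_cnj hx, rfl⟩
  simpa [mul_assoc] using this

/-- An element of order prime to `p` stabilising `Q > R > 1` centralises `Q`. -/
theorem centralizes_of_stable {Q R : Subgroup G} (hQ : IsPGroup p Q) (hRQ : R ≤ Q) {t : G}
    (hc : t ∈ centralizer (R : Set G)) (hs : ∀ q ∈ Q, t * q * t⁻¹ * q⁻¹ ∈ R)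
    (hn : (orderOf t).Coprime p) : t ∈ centralizer (Q : Set G) := by
  refine mem_centralizer_iff.mpr fun q hq => ?_
  set w := t * q * t⁻¹ * q⁻¹ with hw
  have hwR : w ∈ R := hs q hq
  have hwc : w * t = t * w := mem_centralizer_iff.mp hc w hwR
  have key : ∀ n : ℕ, t ^ n * q * (t ^ n)⁻¹ = w ^ n * q := by
    intro n
    induction n with
    | zero => simp
    | succ n ih =>
      have h1 : Commute t (w ^ n) := (Commute.pow_right (show Commute t w from hwc.symm) n)
      calc t ^ (n + 1) * q * (t ^ (n + 1))⁻¹ = t * (t ^ n * q * (t ^ n)⁻¹) * t⁻¹ := by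
            rw [pow_succ']; group
        _ = (t * w ^ n) * q * t⁻¹ := by rw [ih]; group
        _ = (w ^ n * t) * q * t⁻¹ := by rw [h1.eq]
        _ = w ^ n * (t * q * t⁻¹ * q⁻¹) * q := by group
        _ = w ^ (n + 1) * q := by rw [← hw, pow_succ]
  have h0 := key (orderOf t)
  rw [pow_orderOf_eq_one, one_mul, inv_one, mul_one, eq_comm, mul_eq_right] at h0
  obtain ⟨k, hk⟩ := hQ ⟨w, hRQ hwR⟩
  have hw1 : w = 1 := by
    have h1 : orderOf w ∣ orderOf t := orderOf_dvd_of_pow_eq_one h0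
    have h2 : orderOf w ∣ p ^ k := orderOf_dvd_of_pow_eq_one (congrArg Subtype.val hk)
    exact orderOf_eq_one_iff.mp
      (Nat.eq_one_of_dvd_coprimes (Nat.Coprime.pow_right k hn) h1 h2)
  rw [hw, mul_inv_eq_one, mul_inv_eq_iff_eq_mul] at hw1
  exact hw1.symm

/-- A group is generated by one Sylow `p`-subgroup and its elements of order prime to `p`. -/
theorem le_of_pPrime {P K X : Subgroup G} (hP : SylIn p P K) (hPX : P ≤ X)
    (hX : ∀ g ∈ K, (orderOf g).Coprime p → g ∈ X) : K ≤ X := by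
  rw [← relIndex_eq_one]
  by_contra hne
  obtain ⟨q, hq, hdvd⟩ := Nat.exists_prime_and_dvd hne
  by_cases hqp : q = p
  · subst hqp
    exact hP.2.2 (hdvd.trans (relIndex_dvd_of_le_left K hPX))
  · haveI : Fact q.Prime := ⟨hq⟩
    obtain ⟨T⟩ : Nonempty (Sylow q K) := inferInstance
    have hT : (T : Subgroup K) ≤ X.subgroupOf K := fun g hg => by
      obtain ⟨k, hk⟩ := IsPGroup.iff_orderOf.mp T.2 ⟨g, hg⟩
      refine hX g g.2 ?_
      rw [orderOf_coe, ← Subgroup.orderOf_mk g hg, hk]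
      exact Nat.Coprime.pow_left k ((Nat.coprime_primes hq (Fact.out : p.Prime)).mpr hqp)
    exact T.not_dvd_index (hdvd.trans (index_dvd_of_le hT))

/-- The last step below a normal subgroup of a `p`-group. -/
theorem exists_central_mod {S Z D : Subgroup G} (hS : IsPGroup p S) (hZS : Z ≤ S)
    (hSZ : S ≤ normalizer (Z : Set G)) (hSD : S ≤ normalizer (D : Set G)) (hDZ : D < Z) :
    ∃ y ∈ Z, y ∉ D ∧ y ^ p ∈ D ∧ ∀ s ∈ S, s * y * s⁻¹ * y⁻¹ ∈ D := by
  haveI : (D.subgroupOf S).Normal := normal_subgroupOf_of_le_normalizer hSD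
  haveI : (Z.subgroupOf S).Normal := normal_subgroupOf_of_le_normalizer hSZ
  set π := QuotientGroup.mk' (D.subgroupOf S) with hπ
  have hπs : Function.Surjective π := QuotientGroup.mk'_surjective _
  haveI : ((Z.subgroupOf S).map π).Normal := Normal.map inferInstance π hπs
  have hq : IsPGroup p (↥S ⧸ D.subgroupOf S) := hS.to_quotient _
  haveI := hq.isNilpotent
  set X := (Z.subgroupOf S).map π ⊓ center (↥S ⧸ D.subgroupOf S) with hX
  have hne : X ≠ ⊥ := by
    refine Cores.inf_center_ne_bot fun h => not_le_of_gt hDZ fun z hz => ?_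
    have h1 : π ⟨z, hZS hz⟩ = 1 := by
      rw [← mem_bot, ← h]; exact ⟨⟨z, hZS hz⟩, hz, rfl⟩
    exact mem_subgroupOf.mp ((QuotientGroup.eq_one_iff (N := D.subgroupOf S) _).mp h1)
  have hdvd : p ∣ Nat.card X := by
    obtain ⟨k, hk⟩ := IsPGroup.iff_card.mp (hq.to_subgroup X)
    rcases Nat.eq_zero_or_pos k with rfl | hk0
    · rw [pow_zero] at hk; exact absurd (eq_bot_of_card_eq X hk) hne
    · exact hk ▸ dvd_pow_self p hk0.ne'
  obtain ⟨u, hu⟩ := exists_prime_orderOf_dvd_card' p hdvd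
  obtain ⟨⟨z, hz, hzu⟩, hc⟩ := u.2
  have huo : orderOf (u : ↥S ⧸ D.subgroupOf S) = p := by rw [orderOf_coe]; exact hu
  refine ⟨z, hz, fun hD => ?_, ?_, fun s hs => ?_⟩
  · have : π z = 1 := (QuotientGroup.eq_one_iff _).mpr hD
    rw [hzu] at this
    rw [this, orderOf_one] at huo
    exact (Fact.out : p.Prime).ne_one huo.symm
  · have : π (z ^ p) = 1 := by rw [map_pow, hzu, ← huo, pow_orderOf_eq_one]
    exact mem_subgroupOf.mp ((QuotientGroup.eq_one_iff (N := D.subgroupOf S) _).mp this)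
  · have h2 := mem_center_iff.mp hc (π ⟨s, hs⟩)
    rw [← hzu] at h2
    have : π (⟨s, hs⟩ * z * ⟨s, hs⟩⁻¹ * z⁻¹) = 1 := by
      rw [map_mul, map_mul, map_mul, map_inv, map_inv, h2, mul_inv_cancel_right, mul_inv_cancel]
    exact mem_subgroupOf.mp ((QuotientGroup.eq_one_iff (N := D.subgroupOf S) _).mp this)

end Cfsg.Agent.PLocal.ZJFailure
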