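import Mathlib
import Cfsg.Agent.Lib.PLocal.ZJFailure.Basic

/-!
An elementary Alperin argument: where control of strong fusion by an overgroup of `N_G(S)` first fails.
-/

set_option linter.all false
set_option autoImplicit false

namespace Cfsg.Agent.PLocal.ZJFailure

open Subgroup
open Cfsg.Agent.Fusion.SylIn

variable {G : Type*} [Group G]

/-- The elements of `N(R)` acting on `R` like an element of `H`. -/
def Phi (H R : Subgroup G) : Subgroup G where
  carrier := {g | g ∈ normalizer (R : Set G) ∧ ∃ x ∈ H, ∀ r ∈ R, x * r * x⁻¹ = g * r * g⁻¹}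
  one_mem' := ⟨one_mem _, 1, one_mem _, fun _ _ => rfl⟩
  mul_mem' := by
    rintro a b ⟨ha, x, hx, hxa⟩ ⟨hb, y, hy, hyb⟩
    refine ⟨mul_mem ha hb, x * y, mul_mem hx hy, fun r hr => ?_⟩
    have e1 := hxa _ ((mem_normalizer_iff.mp hb r).mp hr)
    have e2 := hyb r hr
    calc x * y * r * (x * y)⁻¹ = x * (y * r * y⁻¹) * x⁻¹ := by group
      _ = a * (b * r * b⁻¹) * a⁻¹ := by rw [e2, e1]
      _ = _ := by group
  inv_mem' := by
    rintro a ⟨ha, x, hx, hxa⟩
    refine ⟨inv_mem ha, x⁻¹, inv_mem hx, fun r hr => ?_⟩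
    have e := hxa _ (inv_conj_mem ha hr)
    have e' : x * (a⁻¹ * r * a) * x⁻¹ = r := by rw [e]; group
    calc x⁻¹ * r * x⁻¹⁻¹ = x⁻¹ * (x * (a⁻¹ * r * a) * x⁻¹) * x⁻¹⁻¹ := by rw [e']
      _ = a⁻¹ * r * a⁻¹⁻¹ := by group

theorem mem_phi {H R : Subgroup G} {g : G} : g ∈ Phi H R ↔
    g ∈ normalizer (R : Set G) ∧ ∃ x ∈ H, ∀ r ∈ R, x * r * x⁻¹ = g * r * g⁻¹ := Iff.rfl

theorem phi_le_normalizer (H R : Subgroup G) : Phi H R ≤ normalizer (R : Set G) := fun _ h => h.1

theorem centralizer_le_phi (H R : Subgroup G) : centralizer (R : Set G) ≤ Phi H R := fun g hg => by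
  refine ⟨centralizer_le_normalizer _ hg, 1, one_mem _, fun r hr => ?_⟩
  rw [← mem_centralizer_iff.mp hg r hr]; group

theorem inf_normalizer_le_phi (H R : Subgroup G) : H ⊓ normalizer (R : Set G) ≤ Phi H R :=
  fun g hg => ⟨hg.2, g, hg.1, fun _ _ => rfl⟩

/-- Every automorphism induced on `R` is induced by `H`. -/
def Ctl (H R : Subgroup G) : Prop := normalizer (R : Set G) ≤ Phi H R

theorem mem_normalizer_of_same [Finite G] {R : Subgroup G} {g x : G}
    (hg : g ∈ normalizer (R : Set G)) (hx : ∀ r ∈ R, x * r * x⁻¹ = g * r * g⁻¹) :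
    x ∈ normalizer (R : Set G) :=
  mem_normalizer_of fun r hr => hx r hr ▸ conj_mem hg hr

theorem ctl_of_conj [Finite G] {H R : Subgroup G} {c x : G} (hx : x ∈ H)
    (hxc : ∀ r ∈ R, x * r * x⁻¹ = c * r * c⁻¹) (h : Ctl H (cnj c R)) : Ctl H R := by
  have he : cnj x R = cnj c R := by
    apply le_antisymm <;> rw [cnj_le_iff] <;> intro r hr
    · rw [hxc r hr]; exact conj_mem_cnj hr
    · rw [← hxc r hr]; exact conj_mem_cnj hr
  intro g hg
  have hg' : x * g * x⁻¹ ∈ normalizer (cnj x R : Set G) := by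
    rw [← cnj_normalizer]; exact conj_mem_cnj hg
  rw [he] at hg'
  obtain ⟨-, y, hy, hyx⟩ := h hg'
  refine ⟨hg, x⁻¹ * y * x, mul_mem (mul_mem (inv_mem hx) hy) hx, fun r hr => ?_⟩
  have e := hyx (x * r * x⁻¹) (he ▸ conj_mem_cnj hr)
  calc x⁻¹ * y * x * r * (x⁻¹ * y * x)⁻¹ = x⁻¹ * (y * (x * r * x⁻¹) * y⁻¹) * x := by group
    _ = x⁻¹ * (x * g * x⁻¹ * (x * r * x⁻¹) * (x * g * x⁻¹)⁻¹) * x := by rw [e]
    _ = _ := by group

variable [Finite G] {p : ℕ} [Fact p.Prime] {S H : Subgroup G}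

/-- A conjugate of a `p`-subgroup into a Sylow subgroup. -/
theorem exists_cnj_le (hS : SylIn p S ⊤) {T : Subgroup G} (hT : IsPGroup p T) :
    ∃ c : G, cnj c T ≤ S := by
  obtain ⟨c, -, hc⟩ := hS.exists_conj le_top hT
  rw [Fusion.Basic.img_cj] at hc
  exact ⟨c, hc⟩

/-- A conjugate of `R` in `S` whose normaliser in `S` is a Sylow subgroup of its normaliser. -/
theorem exists_fully_normalized (hS : SylIn p S ⊤) {R : Subgroup G} (hR : R ≤ S) :
    ∃ c : G, cnj c (S ⊓ normalizer (R : Set G)) ≤ S ∧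
      cnj c (S ⊓ normalizer (R : Set G)) ≤ S ⊓ normalizer (cnj c R : Set G) ∧
      SylIn p (S ⊓ normalizer (cnj c R : Set G)) (normalizer (cnj c R : Set G)) := by
  obtain ⟨T, hT, hTs⟩ := exists_sylIn (B := normalizer (R : Set G))
    (inf_le_right : S ⊓ normalizer (R : Set G) ≤ _) (hS.2.1.to_le inf_le_left)
  obtain ⟨c, hc⟩ := exists_cnj_le hS hTs.2.1
  have h1 : cnj c (S ⊓ normalizer (R : Set G)) ≤ S := (cnj_mono hT).trans hc
  have h2 : cnj c T ≤ S ⊓ normalizer (cnj c R : Set G) :=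
    le_inf hc ((cnj_mono hTs.1).trans (cnj_normalizer c R).le)
  refine ⟨c, h1, (cnj_mono hT).trans h2, sylIn_of_card_max inf_le_right
    (hS.2.1.to_le inf_le_left) fun M hM hp => ?_⟩
  refine le_trans ?_ (card_le_of_le h2)
  rw [card_cnj]
  have h3 : cnj c⁻¹ M ≤ normalizer (R : Set G) := by
    refine (cnj_mono hM).trans ?_
    rw [cnj_normalizer, cnj_cnj, inv_mul_cancel, cnj_one]
  have := hTs.card_le h3 (hp.map _)
  rwa [card_cnj] at this

theorem card_inf_normalizer_pos {μ : ℕ} {R : Subgroup G} (hR : R ≤ S) (h : μ < Nat.card R) :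
    μ < Nat.card ↥(S ⊓ normalizer (R : Set G)) :=
  h.trans_le (card_le_of_le (le_inf hR le_normalizer))

/-- The induction of Alperin's argument. -/
theorem controlled (hS : SylIn p S ⊤) (hNS : normalizer (S : Set G) ≤ H) (μ : ℕ)
    (hyp : ∀ Q ≤ S, S ⊓ centralizer (Q : Set G) ≤ Q →
      SylIn p (S ⊓ normalizer (Q : Set G)) (normalizer (Q : Set G)) →
      μ < Nat.card ↥(S ⊓ normalizer (Q : Set G)) → Ctl H Q) :
    ∀ R ≤ S, μ < Nat.card ↥(S ⊓ normalizer (R : Set G)) → Ctl H R ∧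
      ∀ g : G, cnj g R ≤ S → μ < Nat.card ↥(S ⊓ normalizer (cnj g R : Set G)) →
        ∃ x ∈ H, ∀ r ∈ R, x * r * x⁻¹ = g * r * g⁻¹ := by
  suffices h : ∀ n, ∀ R ≤ S, Nat.card S - Nat.card R = n →
      μ < Nat.card ↥(S ⊓ normalizer (R : Set G)) → Ctl H R ∧
      ∀ g : G, cnj g R ≤ S → μ < Nat.card ↥(S ⊓ normalizer (cnj g R : Set G)) →
        ∃ x ∈ H, ∀ r ∈ R, x * r * x⁻¹ = g * r * g⁻¹ from fun R hR hμ => h _ R hR rfl hμ
  intro n
  induction n using Nat.strong_induction_on with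
  | _ n IH =>
  have big : ∀ R R₁ : Subgroup G, R ≤ S → Nat.card S - Nat.card R = n → R₁ ≤ S →
      Nat.card R < Nat.card R₁ → μ < Nat.card ↥(S ⊓ normalizer (R₁ : Set G)) → Ctl H R₁ ∧
      ∀ g : G, cnj g R₁ ≤ S → μ < Nat.card ↥(S ⊓ normalizer (cnj g R₁ : Set G)) →
        ∃ x ∈ H, ∀ r ∈ R₁, x * r * x⁻¹ = g * r * g⁻¹ := fun R R₁ hR hn hR₁ hlt hμ => by
    have := card_le_of_le hR₁
    exact IH _ (by omega) R₁ hR₁ rfl hμ
  have conjN : ∀ (R : Subgroup G) (c : G), R ≤ S → Nat.card S - Nat.card R = n → R ≠ S →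
      cnj c (S ⊓ normalizer (R : Set G)) ≤ S →
      μ < Nat.card ↥(S ⊓ normalizer (R : Set G)) →
      ∃ x ∈ H, ∀ r ∈ S ⊓ normalizer (R : Set G), x * r * x⁻¹ = c * r * c⁻¹ := by
    intro R c hR hn hne hc hμ
    have hgrow := AbelianFixed.lt_inf_normalizer hS.2.1 (lt_of_le_of_ne hR hne)
    have hlt : Nat.card R < Nat.card ↥(S ⊓ normalizer (R : Set G)) :=
      Set.Finite.card_lt_card (Set.toFinite _) (SetLike.coe_ssubset_coe.mpr hgrow)
    refine (big R _ hR hn inf_le_left hlt (card_inf_normalizer_pos inf_le_left hμ)).2 c hc ?_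
    exact card_inf_normalizer_pos hc (by rw [card_cnj]; exact hμ)
  have hctl : ∀ R ≤ S, Nat.card S - Nat.card R = n →
      μ < Nat.card ↥(S ⊓ normalizer (R : Set G)) → Ctl H R := by
    intro R hR hn hμ
    by_cases hRS : R = S
    · subst hRS
      exact fun g hg => inf_normalizer_le_phi H R ⟨hNS hg, hg⟩
    obtain ⟨c, hc, hcN, hsyl⟩ := exists_fully_normalized hS hR
    obtain ⟨x, hx, hxc⟩ := conjN R c hR hn hRS hc hμ
    have hRN : R ≤ S ⊓ normalizer (R : Set G) := le_inf hR le_normalizer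
    refine ctl_of_conj hx (fun r hr => hxc r (hRN hr)) ?_
    have hR' : cnj c R ≤ S := (cnj_mono hRN).trans hc
    have hμ' : μ < Nat.card ↥(S ⊓ normalizer (cnj c R : Set G)) :=
      hμ.trans_le ((card_cnj c _).ge.trans (card_le_of_le hcN))
    have hn' : Nat.card S - Nat.card (cnj c R) = n := by rw [card_cnj]; exact hn
    revert hR' hμ' hn' hsyl
    generalize cnj c R = R'
    intro hsyl hR' hμ' hn'
    by_cases hcen : S ⊓ centralizer (R' : Set G) ≤ R'
    · exact hyp R' hR' hcen hsyl hμ'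
    set P := (S ⊓ normalizer (R' : Set G)) ⊓ centralizer (R' : Set G) with hP
    have hPC : SylIn p P (centralizer (R' : Set G)) :=
      hsyl.inf_normal (centralizer_le_normalizer _) fun g hg => mem_normalizer_centralizer hg
    have hPeq : P = S ⊓ centralizer (R' : Set G) := by
      rw [hP, inf_assoc, inf_eq_right.mpr (centralizer_le_normalizer _)]
    set R₁ := R' ⊔ P with hR₁
    have hR₁S : R₁ ≤ S := sup_le hR' (hPeq ▸ inf_le_left)
    have hlt : R' < R₁ := lt_of_le_of_ne le_sup_left fun h => hcen (by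
      rw [← hPeq, h]; exact le_sup_right)
    have hN : S ⊓ normalizer (R' : Set G) ≤ S ⊓ normalizer (R₁ : Set G) := fun s hs =>
      ⟨hs.1, normalizer_sup_le hs.2 (mem_normalizer_inf (le_normalizer hs)
        (mem_normalizer_centralizer hs.2))⟩
    have hctl := (big R' R₁ hR' hn' hR₁S
      (Set.Finite.card_lt_card (Set.toFinite _) (SetLike.coe_ssubset_coe.mpr hlt))
      (hμ'.trans_le (card_le_of_le hN))).1
    intro g hg
    obtain ⟨k, hk, hkg⟩ := frattini (M := normalizer (R' : Set G))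
      (fun a ha => mem_normalizer_centralizer ha) hPC hg
    have hkgR : k * g ∈ normalizer (R' : Set G) := mul_mem (centralizer_le_normalizer _ hk) hg
    obtain ⟨-, y, hy, hye⟩ := hctl (normalizer_sup_le hkgR hkg)
    refine ⟨hg, y, hy, fun r hr => ?_⟩
    have e := hye r (mem_sup_left hr)
    have e2 := mem_centralizer_iff.mp hk (g * r * g⁻¹) (conj_mem hg hr)
    rw [e]
    calc k * g * r * (k * g)⁻¹ = (k * (g * r * g⁻¹)) * k⁻¹ := by group
      _ = g * r * g⁻¹ * k * k⁻¹ := by rw [e2]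
      _ = _ := by rw [mul_inv_cancel_right]
  intro R hR hn hμ
  refine ⟨hctl R hR hn hμ, fun g hg hμg => ?_⟩
  by_cases hRS : R = S
  · subst hRS
    refine ⟨g, hNS (mem_normalizer_of fun r hr => hg (conj_mem_cnj hr)), fun _ _ => rfl⟩
  have hcardg : Nat.card (cnj g R) = Nat.card R := card_cnj g R
  have hgS : cnj g R ≠ S := fun h => hRS (eq_of_le_of_card_ge hR (by rw [← hcardg, h]))
  have hng : Nat.card S - Nat.card (cnj g R) = n := by rw [hcardg]; exact hn
  obtain ⟨c, hc, hcN, hsyl⟩ := exists_fully_normalized hS hg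
  obtain ⟨xc, hxcH, hxc⟩ := conjN _ c hg hng hgS hc hμg
  have hgN : cnj g R ≤ S ⊓ normalizer (cnj g R : Set G) := le_inf hg le_normalizer
  have hR' : cnj c (cnj g R) ≤ S := (cnj_mono hgN).trans hc
  have hμ' : μ < Nat.card ↥(S ⊓ normalizer (cnj c (cnj g R) : Set G)) :=
    hμg.trans_le ((card_cnj c _).ge.trans (card_le_of_le hcN))
  have hctl' := hctl _ hR' (by rw [card_cnj]; exact hng) hμ'
  have hle : cnj (c * g) (S ⊓ normalizer (R : Set G)) ≤
      normalizer (cnj c (cnj g R) : Set G) := by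
    rw [cnj_cnj, ← cnj_normalizer]; exact cnj_mono inf_le_right
  obtain ⟨m, hm, hmS⟩ := hsyl.exists_conj hle ((hS.2.1.to_le inf_le_left).map _)
  rw [Fusion.Basic.img_cj] at hmS
  obtain ⟨xd, hxdH, hxd⟩ := conjN R (m * (c * g)) hR hn hRS
    (by rw [← cnj_cnj]; exact hmS.trans inf_le_left) hμ
  obtain ⟨-, xm, hxmH, hxm⟩ := hctl' hm
  refine ⟨(xm * xc)⁻¹ * xd, mul_mem (inv_mem (mul_mem hxmH hxcH)) hxdH, fun r hr => ?_⟩
  have hgr : g * r * g⁻¹ ∈ cnj g R := conj_mem_cnj hr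
  have e1 := hxd r (le_inf hR le_normalizer hr)
  have e2 := hxc _ (hgN hgr)
  have e3 := hxm _ (conj_mem_cnj (g := c) hgr)
  calc (xm * xc)⁻¹ * xd * r * ((xm * xc)⁻¹ * xd)⁻¹
      = (xm * xc)⁻¹ * (xd * r * xd⁻¹) * (xm * xc) := by group
    _ = (xm * xc)⁻¹ * (m * (c * (g * r * g⁻¹) * c⁻¹) * m⁻¹) * (xm * xc) := by rw [e1]; group
    _ = (xm * xc)⁻¹ * (xm * (xc * (g * r * g⁻¹) * xc⁻¹) * xm⁻¹) * (xm * xc) := by rw [← e3, e2]
    _ = _ := by group

/-- A place of failure of control which is largest. -/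
structure Failure (p : ℕ) (S H Q : Subgroup G) : Prop where
  sylow : SylIn p S ⊤
  le_H : S ≤ H
  normalizer_le : normalizer (S : Set G) ≤ H
  le : Q ≤ S
  centric : S ⊓ centralizer (Q : Set G) ≤ Q
  local_sylow : SylIn p (S ⊓ normalizer (Q : Set G)) (normalizer (Q : Set G))
  fails : ¬ Ctl H Q
  maximal : ∀ R ≤ S, S ⊓ centralizer (R : Set G) ≤ R →
    SylIn p (S ⊓ normalizer (R : Set G)) (normalizer (R : Set G)) → ¬ Ctl H R →
    Nat.card ↥(S ⊓ normalizer (R : Set G)) < Nat.card ↥(S ⊓ normalizer (Q : Set G)) ∨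
      (Nat.card ↥(S ⊓ normalizer (R : Set G)) = Nat.card ↥(S ⊓ normalizer (Q : Set G)) ∧
        Nat.card R ≤ Nat.card Q)

/-- If `H` does not control strong fusion then there is a largest place of failure. -/
theorem exists_failure (hS : SylIn p S ⊤) (hSH : S ≤ H) (hNS : normalizer (S : Set G) ≤ H)
    (h : ¬ ∀ A : Set G, A ⊆ S → ∀ g : G, (fun a => g * a * g⁻¹) '' A ⊆ S →
      ∃ x ∈ H, ∀ a ∈ A, g * a * g⁻¹ = x * a * x⁻¹) :
    ∃ Q, Failure p S H Q := by
  let 𝒬 : Set (Subgroup G) := {R | R ≤ S ∧ S ⊓ centralizer (R : Set G) ≤ R ∧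
    SylIn p (S ⊓ normalizer (R : Set G)) (normalizer (R : Set G)) ∧ ¬ Ctl H R}
  have hne : 𝒬.Nonempty := by
    rw [Set.nonempty_iff_ne_empty]
    intro hemp
    refine h fun A hA g hg => ?_
    have hall := controlled hS hNS 0 fun Q h1 h2 h3 _ => by_contra fun h4 =>
      (hemp ▸ Set.notMem_empty Q) (show Q ∈ 𝒬 from ⟨h1, h2, h3, h4⟩)
    have hR : closure A ≤ S := (closure_le _).mpr hA
    have hgR : cnj g (closure A) ≤ S := by
      rw [cnj, MonoidHom.map_closure, closure_le]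
      exact hg
    obtain ⟨x, hx, hxa⟩ := (hall _ hR Nat.card_pos).2 g hgR Nat.card_pos
    exact ⟨x, hx, fun a ha => (hxa a (subset_closure ha)).symm⟩
  obtain ⟨Q, hQ, hmax⟩ := Set.exists_max_image 𝒬
    (fun R => Nat.card ↥(S ⊓ normalizer (R : Set G)) * (Nat.card G + 1) + Nat.card R)
    (Set.toFinite _) hne
  refine ⟨Q, hS, hSH, hNS, hQ.1, hQ.2.1, hQ.2.2.1, hQ.2.2.2, fun R h1 h2 h3 h4 => ?_⟩
  have hle := hmax R ⟨h1, h2, h3, h4⟩
  have hb1 := card_le_card_group R
  have hb2 := card_le_card_group Q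
  rcases lt_trichotomy (Nat.card ↥(S ⊓ normalizer (R : Set G)))
    (Nat.card ↥(S ⊓ normalizer (Q : Set G))) with hlt | heq | hgt
  · exact Or.inl hlt
  · exact Or.inr ⟨heq, by rw [heq] at hle; omega⟩
  · exfalso; nlinarith

namespace Failure

variable {Q : Subgroup G} (F : Failure p S H Q)
include F

/-- Everything with a larger normaliser in `S` is controlled. -/
theorem above : ∀ R ≤ S,
    Nat.card ↥(S ⊓ normalizer (Q : Set G)) < Nat.card ↥(S ⊓ normalizer (R : Set G)) → Ctl H R ∧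
      ∀ g : G, cnj g R ≤ S →
        Nat.card ↥(S ⊓ normalizer (Q : Set G)) < Nat.card ↥(S ⊓ normalizer (cnj g R : Set G)) →
        ∃ x ∈ H, ∀ r ∈ R, x * r * x⁻¹ = g * r * g⁻¹ :=
  controlled F.sylow F.normalizer_le _ fun R h1 h2 h3 h4 => by_contra fun h5 => by
    rcases F.maximal R h1 h2 h3 h5 with h | h <;> omega

theorem ne_S : Q ≠ S := by
  rintro rfl
  exact F.fails fun g hg => inf_normalizer_le_phi H _ ⟨F.normalizer_le hg, hg⟩

theorem S0_le_phi : S ⊓ normalizer (Q : Set G) ≤ Phi H Q :=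
  (inf_le_inf_right _ F.le_H).trans (inf_normalizer_le_phi H Q)

/-- A subgroup between `Q` and `N_S(Q)` with a normaliser not inside the controlled part is `Q`. -/
theorem eq_of_not_le {R M : Subgroup G} (hMN : M ≤ normalizer (Q : Set G)) (hQR : Q ≤ R)
    (hRS : R ≤ S ⊓ normalizer (Q : Set G))
    (hnorm : S ⊓ normalizer (Q : Set G) ≤ normalizer (R : Set G))
    (hnot : ¬ normalizer (R : Set G) ⊓ M ≤ Phi H Q) : R = Q := by
  by_contra hne
  have hlt : Nat.card Q < Nat.card R := Set.Finite.card_lt_card (Set.toFinite _)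
    (SetLike.coe_ssubset_coe.mpr (lt_of_le_of_ne hQR (Ne.symm hne)))
  set S₀ := S ⊓ normalizer (Q : Set G) with hS₀
  have hRnctl : ¬ Ctl H R := fun hc => hnot fun g hg => by
    obtain ⟨-, x, hx, hxg⟩ := hc hg.1
    exact ⟨hMN hg.2, x, hx, fun r hr => hxg r (hQR hr)⟩
  have hRS' : R ≤ S := hRS.trans inf_le_left
  have hle0 : S₀ ≤ S ⊓ normalizer (R : Set G) := le_inf inf_le_left hnorm
  have heq : S ⊓ normalizer (R : Set G) = S₀ := by
    refine (eq_of_le_of_card_ge hle0 ?_).symm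
    by_contra hh
    exact hRnctl (F.above R hRS' (not_le.mp hh)).1
  obtain ⟨T, hT, hTs⟩ := exists_sylIn (B := normalizer (R : Set G)) hnorm
    (F.sylow.2.1.to_le inf_le_left)
  have hC : T ⊓ centralizer (R : Set G) ≤ R := by
    have h1 : T ⊓ centralizer (R : Set G) ≤ normalizer (Q : Set G) :=
      inf_le_right.trans ((centralizer_le hQR).trans (centralizer_le_normalizer _))
    have h2 : S₀ ≤ normalizer ((T ⊓ centralizer (R : Set G) : Subgroup G) : Set G) := fun s hs =>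
      mem_normalizer_inf (le_normalizer (hT hs)) (mem_normalizer_centralizer (hnorm hs))
    have hp : IsPGroup p ↥(T ⊓ centralizer (R : Set G) ⊔ S₀) :=
      hTs.2.1.to_le (sup_le inf_le_left hT)
    have h3 := F.local_sylow.eq_of_le le_sup_right (sup_le h1 inf_le_right) hp
    intro t ht
    have ht0 : t ∈ S₀ := by rw [hS₀, h3]; exact mem_sup_left ht
    exact hQR (F.centric ⟨ht0.1, centralizer_le hQR ht.2⟩)
  obtain ⟨c, hc⟩ := exists_cnj_le F.sylow hTs.2.1
  set R' := cnj c R with hR'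
  have hRT : R ≤ T := hRS.trans hT
  have hR'S : R' ≤ S := (cnj_mono hRT).trans hc
  have hcT : cnj c T ≤ S ⊓ normalizer (R' : Set G) :=
    le_inf hc ((cnj_mono hTs.1).trans (cnj_normalizer c R).le)
  have hN' : SylIn p (S ⊓ normalizer (R' : Set G)) (normalizer (R' : Set G)) := by
    refine sylIn_of_card_max inf_le_right (F.sylow.2.1.to_le inf_le_left) fun M hM hp => ?_
    refine le_trans ?_ (card_le_of_le hcT)
    have h3 : cnj c⁻¹ M ≤ normalizer (R : Set G) := by
      refine (cnj_mono hM).trans ?_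
      rw [hR', cnj_normalizer, cnj_cnj, inv_mul_cancel, cnj_one]
    have := hTs.card_le h3 (hp.map _)
    rwa [card_cnj, ← card_cnj c T] at this
  have hN'eq : S ⊓ normalizer (R' : Set G) = cnj c T := by
    refine (eq_of_le_of_card_ge hcT ?_).symm
    have h3 : cnj c⁻¹ (S ⊓ normalizer (R' : Set G)) ≤ normalizer (R : Set G) := by
      refine (cnj_mono inf_le_right).trans ?_
      rw [hR', cnj_normalizer, cnj_cnj, inv_mul_cancel, cnj_one]
    have := hTs.card_le h3 ((F.sylow.2.1.to_le inf_le_left).map _)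
    rwa [card_cnj, ← card_cnj c T] at this
  have hcen' : S ⊓ centralizer (R' : Set G) ≤ R' := by
    intro s hs
    have hsN : s ∈ cnj c T := hN'eq ▸ ⟨hs.1, centralizer_le_normalizer _ hs.2⟩
    rw [mem_cnj] at hsN
    rw [hR', mem_cnj]
    refine hC ⟨hsN, mem_centralizer_iff.mpr fun r hr => ?_⟩
    have e := mem_centralizer_iff.mp hs.2 _ (conj_mem_cnj (g := c) hr)
    calc r * (c⁻¹ * s * c) = c⁻¹ * ((c * r * c⁻¹) * s) * c := by group
      _ = c⁻¹ * (s * (c * r * c⁻¹)) * c := by rw [e]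
      _ = _ := by group
  have hctl' : Ctl H R' := by_contra fun h5 => by
    have hge : Nat.card S₀ ≤ Nat.card ↥(S ⊓ normalizer (R' : Set G)) := by
      rw [hN'eq, card_cnj]; exact card_le_of_le hT
    rcases F.maximal R' hR'S hcen' hN' h5 with h | ⟨-, h⟩
    · change _ < Nat.card S₀ at h; omega
    · rw [hR', card_cnj] at h; omega
  -- transport the control back to `R`
  by_cases hS0 : S₀ = S
  · have hTS : T = S₀ := by
      refine (eq_of_le_of_card_ge hT ?_).symm
      calc Nat.card T ≤ Nat.card S := F.sylow.card_le le_top hTs.2.1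
        _ = _ := by rw [hS0]
    refine hRnctl (by_contra fun h5 => ?_)
    have hcen : S ⊓ centralizer (R : Set G) ≤ R := by
      rw [hTS, hS0] at hC; exact hC
    have hsyl : SylIn p (S ⊓ normalizer (R : Set G)) (normalizer (R : Set G)) := by
      rw [heq, ← hTS]; exact hTs
    rcases F.maximal R hRS' hcen hsyl h5 with h | ⟨-, h⟩
    · rw [heq] at h; exact lt_irrefl _ h
    · omega
  · have hlt0 : S₀ < S := lt_of_le_of_ne inf_le_left hS0
    have hgrow : ∀ X : Subgroup G, X ≤ S → Nat.card X = Nat.card S₀ →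
        Nat.card S₀ < Nat.card ↥(S ⊓ normalizer (X : Set G)) := by
      intro X hX hcard
      have hXlt : X < S := lt_of_le_of_ne hX fun h => by
        have := Set.Finite.card_lt_card (Set.toFinite _) (SetLike.coe_ssubset_coe.mpr hlt0)
        simp only [SetLike.coe_sort_coe] at this
        rw [h] at hcard; omega
      rw [← hcard]
      exact Set.Finite.card_lt_card (Set.toFinite _)
        (SetLike.coe_ssubset_coe.mpr (AbelianFixed.lt_inf_normalizer F.sylow.2.1 hXlt))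
    have himg : cnj c S₀ ≤ S := (cnj_mono hT).trans hc
    obtain ⟨x, hx, hxc⟩ := (F.above S₀ inf_le_left (hgrow _ inf_le_left rfl)).2 c himg
      (hgrow _ himg (card_cnj c S₀))
    exact hRnctl (ctl_of_conj hx (fun r hr => hxc r (hRS hr)) hctl')

/-- A controlled centric subgroup of `Q` cannot be normal in `M`. -/
theorem false_of_normalized {R M : Subgroup G} (hMN : M ≤ normalizer (Q : Set G))
    (hS0M : S ⊓ normalizer (Q : Set G) ≤ M) (hnot : ¬ M ≤ Phi H Q) (hRQ : R ≤ Q)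
    (hcen : S ⊓ normalizer (Q : Set G) ⊓ centralizer (R : Set G) ≤ R)
    (hnorm : M ≤ normalizer (R : Set G)) (hctl : Ctl H R) : False := by
  set S₀ := S ⊓ normalizer (Q : Set G) with hS₀
  have hQS₀ : Q ≤ S₀ := le_inf F.le le_normalizer
  have hQR : Q ≤ normalizer (R : Set G) := (hQS₀.trans hS0M).trans hnorm
  have hQp : IsPGroup p Q := F.sylow.2.1.to_le F.le
  -- the part of `N(Q)` centralising `R`
  set K := normalizer (Q : Set G) ⊓ centralizer (R : Set G) with hK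
  have hprime : ∀ t ∈ K, (orderOf t).Coprime p → t ∈ centralizer (Q : Set G) := by
    intro t ht hn
    have hzR : centralizer (R : Set G) ⊓ Q ≤ R := fun q hq =>
      hcen ⟨hQS₀ hq.2, hq.1⟩
    refine centralizes_of_stable hQp hRQ ht.2 (fun q hq => hzR (mem_inf.mpr ⟨?_, ?_⟩)) hn
    · have h1 : t * q * t⁻¹ * q⁻¹ = t * (q * t⁻¹ * q⁻¹) := by group
      rw [h1]
      show _ ∈ centralizer (R : Set G)
      exact mul_mem ht.2 (conj_mem (mem_normalizer_centralizer (hQR hq)) (inv_mem (show t ∈ centralizer (R : Set G) from ht.2)))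
    · exact mul_mem (conj_mem ht.1 hq) (inv_mem hq)
  have hQKR : S₀ ⊓ normalizer (R : Set G) = S₀ := inf_eq_left.mpr (hS0M.trans hnorm)
  have hKsyl : SylIn p (S₀ ⊓ K) K := by
    refine (F.local_sylow.mono (M := normalizer (Q : Set G) ⊓ normalizer (R : Set G))
      (le_inf inf_le_right (hS0M.trans hnorm)) inf_le_left).inf_normal
      (inf_le_inf_left _ (centralizer_le_normalizer _)) fun g hg => ?_
    exact mem_normalizer_inf (le_normalizer hg.1) (mem_normalizer_centralizer hg.2)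
  have hKle : S₀ ⊓ K ≤ R := fun s hs => hcen ⟨hs.1, hs.2.2⟩
  have hKphi : K ≤ Phi H Q := le_of_pPrime hKsyl
    (fun s hs => F.S0_le_phi hs.1) fun t ht hn => centralizer_le_phi H Q (hprime t ht hn)
  have hKp : ∀ P : Subgroup G, P ≤ K → IsPGroup p P → P ≤ Q := by
    intro P hP hp
    obtain ⟨b, hb, hbP⟩ := hKsyl.exists_conj hP hp
    rw [Fusion.Basic.img_cj] at hbP
    intro s hs
    have hr := hKle (hbP (conj_mem_cnj hs))
    have e := mem_centralizer_iff.mp hb.2 _ hr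
    have : s = b * s * b⁻¹ := by
      calc s = b⁻¹ * ((b * s * b⁻¹) * b) := by group
        _ = b⁻¹ * (b * (b * s * b⁻¹)) := by rw [e]
        _ = _ := by group
    rw [this]; exact hRQ hr
  set L := H ⊓ centralizer (R : Set G) with hL
  have hQH : Q ≤ H := F.le.trans F.le_H
  have hQL : Q ≤ normalizer (L : Set G) := fun q hq =>
    mem_normalizer_inf (le_normalizer (hQH hq)) (mem_normalizer_centralizer (hQR hq))
  set X := L ⊔ Q with hX
  have hXmem : ∀ u ∈ X, ∃ l ∈ L, ∃ q ∈ Q, u = l * q := by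
    intro u hu
    rw [hX, ← SetLike.mem_coe, Subgroup.coe_mul_of_right_le_normalizer_left _ _ hQL] at hu
    obtain ⟨l, hl, q, hq, rfl⟩ := hu
    exact ⟨l, hl, q, hq, rfl⟩
  obtain ⟨T, hQT, hT⟩ := exists_sylIn (B := X) le_sup_right hQp
  have hTQ : T = Q := by
    by_contra hne
    have hgrow := AbelianFixed.lt_inf_normalizer hT.2.1 (lt_of_le_of_ne hQT (Ne.symm hne))
    obtain ⟨u, hu, huQ⟩ := SetLike.exists_of_lt hgrow
    obtain ⟨l, hl, q, hq, rfl⟩ := hXmem u (hT.1 hu.1)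
    have hlT : l ∈ T := (mul_mem_cancel_right (hQT hq)).mp hu.1
    have hlN : l ∈ normalizer (Q : Set G) :=
      (mul_mem_cancel_right (le_normalizer hq)).mp hu.2
    have : T ⊓ K ≤ Q := hKp _ inf_le_right (hT.2.1.to_le inf_le_left)
    exact huQ (mul_mem (this ⟨hlT, hlN, hl.2⟩) hq)
  rw [hTQ] at hT
  refine hnot fun g hg => ?_
  obtain ⟨-, x, hx, hxg⟩ := hctl (hnorm hg)
  set k := x⁻¹ * g with hk
  have hkC : k ∈ centralizer (R : Set G) := mem_centralizer_iff.mpr fun r hr => by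
    have e := hxg r hr
    calc r * k = x⁻¹ * (x * r * x⁻¹) * g := by rw [hk]; group
      _ = x⁻¹ * (g * r * g⁻¹) * g := by rw [e]
      _ = _ := by rw [hk]; group
  have hkQ : cnj k Q ≤ X := by
    rw [cnj_le_iff]
    intro q hq
    have hH : k * q * k⁻¹ ∈ H := by
      have : k * q * k⁻¹ = x⁻¹ * (g * q * g⁻¹) * x := by rw [hk]; group
      rw [this]
      exact mul_mem (mul_mem (inv_mem hx) (hQH (conj_mem (hMN hg) hq))) hx
    have hl : k * q * k⁻¹ * q⁻¹ ∈ L := by
      refine mem_inf.mpr ⟨mul_mem hH (inv_mem (hQH hq)), ?_⟩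
      have h1 : k * q * k⁻¹ * q⁻¹ = k * (q * k⁻¹ * q⁻¹) := by group
      rw [h1]
      show _ ∈ centralizer (R : Set G)
      exact mul_mem hkC (conj_mem (mem_normalizer_centralizer (hQR hq)) (inv_mem (show k ∈ centralizer (R : Set G) from hkC)))
    have := mul_mem (mem_sup_left (T := Q) hl) (mem_sup_right hq)
    simpa using this
  obtain ⟨b, hb, hbQ⟩ := hT.exists_conj hkQ (hQp.map _)
  rw [Fusion.Basic.img_cj] at hbQ
  obtain ⟨l, hl, q, hq, rfl⟩ := hXmem b⁻¹ (inv_mem hb) |> fun ⟨l, hl, q, hq, e⟩ =>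
    (⟨l, hl, q, hq, inv_eq_iff_eq_inv.mp e⟩ : ∃ l ∈ L, ∃ q ∈ Q, b = (l * q)⁻¹)
  have hn : l⁻¹ * k ∈ normalizer (Q : Set G) := mem_normalizer_of fun r hr => by
    have h1 := hbQ (conj_mem_cnj (conj_mem_cnj (g := k) hr))
    have h2 := conj_mem (le_normalizer hq) h1
    simpa [mul_assoc] using h2
  have hnK : l⁻¹ * k ∈ K := mem_inf.mpr ⟨hn, mul_mem (inv_mem (mem_inf.mp hl).2) hkC⟩
  have hgl : g = (x * l) * (l⁻¹ * k) := by rw [hk]; group
  rw [hgl]
  refine mul_mem (inf_normalizer_le_phi H Q (mem_inf.mpr ⟨mul_mem hx hl.1, ?_⟩)) (hKphi hnK)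
  have : x * l = g * (l⁻¹ * k)⁻¹ := by rw [hk]; group
  rw [this]
  exact mul_mem (hMN hg) (inv_mem hn)

end Failure

end Cfsg.Agent.PLocal.ZJFailure
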