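import Cfsg.Agent.Techniques.SL2.Rep

/-!
An invariant plane through the orbit of a given fixed vector of two quadratic endomorphisms.
-/

set_option linter.all false
set_option autoImplicit false

namespace Cfsg.Agent.PLocal.ZJFailure

open Polynomial
open scoped MatrixGroups

theorem exists_plane_at (p : ℕ) [Fact p.Prime] {K : Type} {W : Type*} [Field K] [Fintype K]
    [AddCommGroup W] [Module K W] [FiniteDimensional K W] [CharP K p] {H : Type*} [Group H]
    (L : H →* Module.End K W) {a b : H} (hgen : Subgroup.closure ({a, b} : Set H) = ⊤)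
    (hα : (L a - 1) * (L a - 1) = 0) (hβ : (L b - 1) * (L b - 1) = 0) {y : W}
    (hy : (L a - 1) y = 0)
    (hn : ∀ n : ℕ, (((L a - 1) * (L b - 1) + (L b - 1) * (L a - 1)) ^ n) y ≠ 0) :
    ∃ (F : Type) (_ : Field F) (_ : Fintype F) (_ : CharP F p) (z : F) (ρ : H →* SL(2, F))
      (ι : (Fin 2 → F) →+ W), z ≠ 0 ∧ Function.Injective ι ∧
        ρ a = Classical.GL2.uniSL z ∧ ρ b = Classical.GL2.lowSL 1 ∧
        (∀ h x, L h (ι x) = ι ((ρ h : Matrix (Fin 2) (Fin 2) F).mulVec x)) ∧
        ∀ c : F, ∃ q : K[X], ι ![c, 0] =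
          aeval ((L a - 1) * (L b - 1) + (L b - 1) * (L a - 1)) q y := by
  classical
  set A := L a - 1 with hA
  set B := L b - 1 with hB
  set z := A * B + B * A with hz
  have hAz : Commute A z := by
    rw [Commute, SemiconjBy, hz, mul_add, add_mul, ← mul_assoc A A, hα, zero_mul, zero_add,
      mul_assoc B A A, hα, mul_zero, add_zero, mul_assoc A B A]
  -- an irreducible factor prime to `X`, and a vector of the orbit killed by it
  obtain ⟨g, hgi, hgm, hgX, P, hv, hvg⟩ : ∃ g : K[X], Irreducible g ∧ g.Monic ∧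
      ¬ g ∣ (X : K[X]) ∧ ∃ P : K[X], aeval z P y ≠ 0 ∧ aeval z g (aeval z P y) = 0 := by
    have hμ0 : minpoly K z ≠ 0 := minpoly.ne_zero (Algebra.IsIntegral.isIntegral z)
    obtain ⟨q, hq, hXq⟩ := exists_eq_pow_rootMultiplicity_mul_and_not_dvd (minpoly K z) hμ0 0
    rw [C_0, sub_zero] at hq hXq
    have key : ∀ f : K[X], f ≠ 0 → ¬ (X : K[X]) ∣ f → ∀ P : K[X], aeval z P y ≠ 0 →
        aeval z f (aeval z P y) = 0 → ∃ g : K[X], Irreducible g ∧ g.Monic ∧ ¬ g ∣ (X : K[X]) ∧
          ∃ P : K[X], aeval z P y ≠ 0 ∧ aeval z g (aeval z P y) = 0 := by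
      intro f
      induction f using WfDvdMonoid.induction_on_irreducible with
      | zero => intro h; exact absurd rfl h
      | unit u hu =>
        intro _ _ P hP h
        obtain ⟨w, hw⟩ := (hu.map (aeval z)).exists_left_inv
        have := congrArg w h
        rw [← Module.End.mul_apply, hw, Module.End.one_apply, map_zero] at this
        exact absurd this hP
      | mul f i hf hi ih =>
        intro hne hX P hP h
        by_cases h0 : aeval z f (aeval z P y) = 0
        · exact ih hf (fun hd => hX (hd.mul_left i)) P hP h0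
        refine ⟨normalize i, (associated_normalize i).irreducible hi, monic_normalize hi.ne_zero,
          fun hd => ?_, f * P, by rw [map_mul, Module.End.mul_apply]; exact h0, ?_⟩
        · rw [normalize_dvd_iff] at hd
          exact hX (((hi.associated_of_dvd irreducible_X hd).symm.dvd).mul_right f)
        · obtain ⟨c, hc⟩ := associated_normalize i
          rw [← hc, mul_comm i, map_mul, map_mul, Module.End.mul_apply, Module.End.mul_apply,
            ← Module.End.mul_apply (aeval z i), ← map_mul, h, map_zero]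
    refine key q (fun h => hμ0 (by rw [hq, h, mul_zero])) hXq
      (X ^ (minpoly K z).rootMultiplicity 0) (by rw [map_pow, aeval_X]; exact hn _) ?_
    rw [← Module.End.mul_apply, ← map_mul, mul_comm, ← hq, minpoly.aeval, LinearMap.zero_apply]
  have : Fact (Irreducible g) := ⟨hgi⟩
  set v : W := aeval z P y with hvdef
  have hAP : ∀ f : K[X], Commute A (aeval z f) := fun f =>
    Algebra.commute_of_mem_adjoin_singleton_of_commute (R := K) (aeval_mem_adjoin_singleton K z) hAz
  have hvA : A v = 0 := by
    rw [hvdef, ← Module.End.mul_apply, (hAP P).eq, Module.End.mul_apply, hy, map_zero]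
  -- the field
  let ev : AdjoinRoot g →+ W :=
    { toFun := fun x => aeval z (AdjoinRoot.modByMonicHom hgm x) v
      map_zero' := by simp
      map_add' := fun x y => by simp }
  have hev : ∀ f : K[X], ev (AdjoinRoot.mk g f) = aeval z f v := by
    intro f
    show aeval z (AdjoinRoot.modByMonicHom hgm (AdjoinRoot.mk g f)) v = aeval z f v
    rw [AdjoinRoot.modByMonicHom_mk]
    conv_rhs => rw [← modByMonic_add_div f g]
    rw [map_add, mul_comm g, map_mul, LinearMap.add_apply, Module.End.mul_apply, hvg, map_zero,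
      add_zero]
  have hevinj : ∀ x, ev x = 0 → x = 0 := by
    intro x hx
    obtain ⟨f, rfl⟩ := AdjoinRoot.mk_surjective x
    by_contra hne
    have hcop : IsCoprime g f :=
      hgi.coprime_iff_not_dvd.2 fun hd => hne (AdjoinRoot.mk_eq_zero.2 hd)
    obtain ⟨c, d, hcd⟩ := hcop
    refine hv ?_
    have h1 := congrArg (fun f => aeval z f v) hcd
    simp only [map_add, map_mul, LinearMap.add_apply, Module.End.mul_apply, map_one,
      Module.End.one_apply] at h1
    rw [hvg, ← hev f, hx, map_zero, map_zero, add_zero] at h1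
    exact h1.symm
  set r := AdjoinRoot.root g with hr
  have hr0 : r ≠ 0 := fun h => hgX (AdjoinRoot.mk_eq_zero.1 h)
  have hA_ev : ∀ x, A (ev x) = 0 := by
    intro x
    obtain ⟨f, rfl⟩ := AdjoinRoot.mk_surjective x
    rw [hev, ← Module.End.mul_apply,
      (Algebra.commute_of_mem_adjoin_singleton_of_commute (R := K)
        (aeval_mem_adjoin_singleton K z) hAz).eq, Module.End.mul_apply, hvA, map_zero]
  have hAB : ∀ x, A (B (ev x)) = ev (r * x) := by
    intro x
    obtain ⟨f, rfl⟩ := AdjoinRoot.mk_surjective x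
    have : r * AdjoinRoot.mk g f = AdjoinRoot.mk g (X * f) := by
      rw [map_mul, AdjoinRoot.mk_X]
    rw [this, hev (X * f), map_mul, aeval_X, Module.End.mul_apply, ← hev f, hz,
      LinearMap.add_apply, Module.End.mul_apply, Module.End.mul_apply, hA_ev, map_zero, add_zero]
  have hBB : ∀ w, B (B w) = 0 := fun w => by
    rw [← Module.End.mul_apply, hβ, LinearMap.zero_apply]
  let ι : (Fin 2 → AdjoinRoot g) →+ W :=
    { toFun := fun x => ev (x 0) + B (ev (x 1))
      map_zero' := by simp
      map_add' := fun x y => by simp only [Pi.add_apply, map_add]; abel }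
  have hι : ∀ x, ι x = ev (x 0) + B (ev (x 1)) := fun x => rfl
  have hιinj : Function.Injective ι := by
    refine (injective_iff_map_eq_zero ι).2 fun x hx => ?_
    rw [hι] at hx
    have h1 := congrArg A hx
    rw [map_add, hA_ev, hAB, zero_add, map_zero] at h1
    have hx1 : x 1 = 0 := (mul_eq_zero.1 (hevinj _ h1)).resolve_left hr0
    rw [hx1, map_zero, map_zero, add_zero] at hx
    funext i
    fin_cases i
    · exact hevinj _ hx
    · exact hx1
  have hLa : ∀ w, L a w = w + A w := fun w => by
    rw [hA, LinearMap.sub_apply, Module.End.one_apply, add_sub_cancel]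
  have hLb : ∀ w, L b w = w + B w := fun w => by
    rw [hB, LinearMap.sub_apply, Module.End.one_apply, add_sub_cancel]
  have ha : ∀ x, L a (ι x) =
      ι ((Classical.GL2.uniSL r : Matrix (Fin 2) (Fin 2) (AdjoinRoot g)).mulVec x) := by
    intro x
    rw [hLa, hι, hι, map_add A, hA_ev, hAB]
    simp [Classical.GL2.coe_uniSL, Matrix.mulVec, dotProduct, Fin.sum_univ_two, map_add]
    abel
  have hb : ∀ x, L b (ι x) =
      ι (((Classical.GL2.lowSL (1 : AdjoinRoot g) : SL(2, AdjoinRoot g)) :
        Matrix (Fin 2) (Fin 2) (AdjoinRoot g)).mulVec x) := by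
    intro x
    rw [hLb, hι, hι, map_add B, hBB]
    simp [Classical.GL2.coe_lowSL, Matrix.mulVec, dotProduct, Fin.sum_univ_two, map_add]
    abel
  have hex : ∀ h : H, ∃ M : SL(2, AdjoinRoot g), ∀ x,
      L h (ι x) = ι ((M : Matrix (Fin 2) (Fin 2) (AdjoinRoot g)).mulVec x) := by
    intro h
    have hh : h ∈ Subgroup.closure ({a, b} : Set H) := hgen ▸ Subgroup.mem_top h
    induction hh using Subgroup.closure_induction with
    | mem y hy =>
      rcases hy with rfl | rfl
      · exact ⟨_, ha⟩
      · exact ⟨_, hb⟩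
    | one => exact ⟨1, fun x => by simp⟩
    | mul y y' _ _ h1 h2 =>
      obtain ⟨M, hM⟩ := h1
      obtain ⟨N, hN⟩ := h2
      exact ⟨M * N, fun x => by
        rw [map_mul, Module.End.mul_apply, hN, hM, Matrix.SpecialLinearGroup.coe_mul,
          Matrix.mulVec_mulVec]⟩
    | inv y _ h1 =>
      obtain ⟨M, hM⟩ := h1
      refine ⟨M⁻¹, fun x => ?_⟩
      conv_lhs => rw [show x = (M : Matrix (Fin 2) (Fin 2) (AdjoinRoot g)).mulVec
        (((M⁻¹ : SL(2, AdjoinRoot g)) : Matrix (Fin 2) (Fin 2) (AdjoinRoot g)).mulVec x) by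
          rw [Matrix.mulVec_mulVec, ← Matrix.SpecialLinearGroup.coe_mul, mul_inv_cancel,
            Matrix.SpecialLinearGroup.coe_one, Matrix.one_mulVec]]
      rw [← hM, ← Module.End.mul_apply, ← map_mul, inv_mul_cancel, map_one, Module.End.one_apply]
  choose M hM using hex
  have huniq : ∀ (N N' : SL(2, AdjoinRoot g)),
      (∀ x, ι ((N : Matrix (Fin 2) (Fin 2) (AdjoinRoot g)).mulVec x) =
        ι ((N' : Matrix (Fin 2) (Fin 2) (AdjoinRoot g)).mulVec x)) → N = N' := fun N N' h =>
    Classical.GL2.sl_ext (Matrix.ext_iff_mulVec.2 fun x => hιinj (h x))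
  let ρ : H →* SL(2, AdjoinRoot g) :=
    { toFun := M
      map_one' := huniq _ _ fun x => by rw [← hM]; simp
      map_mul' := fun y y' => huniq _ _ fun x => by
        rw [← hM, map_mul, Module.End.mul_apply, hM, hM, Matrix.SpecialLinearGroup.coe_mul,
          Matrix.mulVec_mulVec] }
  have : Module.Finite K (AdjoinRoot g) := (AdjoinRoot.powerBasis hgi.ne_zero).finite
  have : Finite (AdjoinRoot g) := Module.finite_of_finite K
  letI : Fintype (AdjoinRoot g) := Fintype.ofFinite _
  refine ⟨AdjoinRoot g, inferInstance, inferInstance,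
    charP_of_injective_algebraMap (algebraMap K (AdjoinRoot g)).injective p, r, ρ, ι, hr0, hιinj,
    huniq _ _ fun x => (hM a x).symm.trans (ha x), huniq _ _ fun x => (hM b x).symm.trans (hb x),
    hM, fun c => ?_⟩
  obtain ⟨f, rfl⟩ := AdjoinRoot.mk_surjective c
  refine ⟨f * P, ?_⟩
  rw [hι, map_mul, Module.End.mul_apply, ← hvdef, ← hev f]
  simp

end Cfsg.Agent.PLocal.ZJFailure
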