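import Mathlib
import Cfsg.Agent.Lib.PLocal.ZJFailure.Basic
import Cfsg.Agent.Lib.PLocal.ZJFailure.Plane
import Cfsg.Agent.Techniques.SL2.Natural
import Cfsg.Agent.Techniques.SL2.Pairs

/-!
A quadratic action in which a fixed point of a Sylow subgroup is moved yields a natural Borel action.
-/

set_option linter.all false
set_option autoImplicit false

namespace Cfsg.Agent.PLocal.ZJFailure

open Subgroup Matrix
open scoped MatrixGroups
open Cfsg.Agent.Fusion.SylIn
open Cfsg.Agent.Techniques.SL2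

universe u v

variable {p : ℕ} [Fact p.Prime]

/-- The upper triangular subgroup of `SL₂(p)`. -/
def upper (p : ℕ) [Fact p.Prime] : Subgroup SL(2, ZMod p) where
  carrier := {M | M.1 1 0 = 0}
  one_mem' := by simp
  mul_mem' := by
    intro A B hA hB
    simp only [Set.mem_setOf_eq] at hA hB ⊢
    simp [Matrix.mul_apply, Fin.sum_univ_two, hA, hB]
  inv_mem' := by
    intro A hA
    simp only [Set.mem_setOf_eq] at hA ⊢
    simp [Matrix.SpecialLinearGroup.coe_inv, Matrix.adjugate_fin_two, hA]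

variable {Γ : Type u} [Group Γ] {W : Type v} [AddCommGroup W] [Module (ZMod p) W]

/-- A nontrivial element acting quadratically. -/
def IsQuad (f : Γ →* Module.End (ZMod p) W) (a : Γ) : Prop :=
  f a ≠ 1 ∧ (f a - 1) * (f a - 1) = 0

theorem IsQuad.conj {f : Γ →* Module.End (ZMod p) W} {a : Γ} (h : IsQuad f a) (g : Γ) :
    IsQuad f (g * a * g⁻¹) := by
  have h1 : f g⁻¹ * f g = 1 := by rw [← map_mul, inv_mul_cancel, map_one]
  have h2 : f g * f g⁻¹ = 1 := by rw [← map_mul, mul_inv_cancel, map_one]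
  have e : f (g * a * g⁻¹) - 1 = f g * (f a - 1) * f g⁻¹ := by
    rw [map_mul, map_mul, mul_sub, sub_mul, mul_one, h2]
  refine ⟨fun hc => h.1 ?_, ?_⟩
  · rw [hc, sub_self] at e
    have e2 : f g⁻¹ * (f g * (f a - 1) * f g⁻¹) * f g = 0 := by rw [← e, mul_zero, zero_mul]
    rw [← mul_assoc, ← mul_assoc, h1, one_mul, mul_assoc, h1, mul_one, sub_eq_zero] at e2
    exact e2
  · rw [e]
    calc f g * (f a - 1) * f g⁻¹ * (f g * (f a - 1) * f g⁻¹)
        = f g * ((f a - 1) * (f g⁻¹ * f g) * (f a - 1)) * f g⁻¹ := by simp only [mul_assoc]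
      _ = 0 := by rw [h1, mul_one, h.2, mul_zero, zero_mul]

/-- The stabiliser of a vector. -/
def fixer (f : Γ →* Module.End (ZMod p) W) (y : W) : Subgroup Γ where
  carrier := {g | f g y = y}
  one_mem' := by simp
  mul_mem' := by
    intro a b ha hb
    simp only [Set.mem_setOf_eq] at ha hb ⊢
    rw [map_mul, Module.End.mul_apply, hb, ha]
  inv_mem' := by
    intro a ha
    simp only [Set.mem_setOf_eq] at ha ⊢
    conv_lhs => rw [← ha]
    rw [← Module.End.mul_apply, ← map_mul, inv_mul_cancel, map_one, Module.End.one_apply]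

theorem ker_le_fixer (f : Γ →* Module.End (ZMod p) W) (y : W) : f.ker ≤ fixer f y := fun g hg => by
  show f g y = y
  rw [MonoidHom.mem_ker.mp hg, Module.End.one_apply]

/-- The hypotheses of the pair theorem. -/
structure PairHyp (f : Γ →* Module.End (ZMod p) W) (S B : Subgroup Γ) (y : W) : Prop where
  sylow : SylIn p S ⊤
  le : S ≤ B
  ne_top : B ≠ ⊤
  maximal : ∀ X : Subgroup Γ, S ≤ X → f.ker ≤ X → X ≠ ⊤ → X ≤ B
  fixed : ∀ s ∈ S, f s y = y
  moved : ∃ g, f g y ≠ y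
  core : ∀ N : Subgroup Γ, N.Normal → f.ker ≤ N → N ≤ f.ker ⊔ N ⊓ S → N = f.ker
  quad : ∃ a ∈ S, IsQuad f a

/-- The conclusion of the pair theorem. -/
def PairConcl (f : Γ →* Module.End (ZMod p) W) (B : Subgroup Γ) (y : W) : Prop :=
  ∃ (E : Subgroup Γ) (θ : E →* SL(2, ZMod p)) (j : (Fin 2 → ZMod p) →+ W),
    E ≤ B ∧ Function.Injective j ∧ (∀ (e : E) x, f e (j x) = j ((θ e).1 *ᵥ x)) ∧
    θ.range = upper p ∧
    ∃ h ∈ B, ∃ c : ZMod p, c ≠ 0 ∧ (∀ k : ℕ, c ^ k = 1 → p - 1 ∣ k) ∧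
      ∀ Y : Submodule (ZMod p) W, y ∈ Y → (∀ w ∈ Y, f h w ∈ Y) →
        ∃ v ∈ Y, v ≠ 0 ∧ f h v = c • v

/-- An eigenvector inside an invariant subspace through the generator of an eigenvector. -/
theorem exists_eigen [Finite W] {T Q : Module.End (ZMod p) W} (hTQ : Commute T Q) {c : ZMod p}
    {y : W} (hv : Q y ≠ 0) (hev : T (Q y) = c • Q y) (Y : Submodule (ZMod p) W) (hy : y ∈ Y)
    (hinv : ∀ w ∈ Y, T w ∈ Y) : ∃ v ∈ Y, v ≠ 0 ∧ T v = c • v := by
  by_contra hno
  push Not at hno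
  let T' : Y → Y := fun w => ⟨T w - c • (w : W), sub_mem (hinv _ w.2) (Y.smul_mem c w.2)⟩
  have hinj : Function.Injective T' := by
    intro w w' h
    have h' : T w - c • (w : W) = T w' - c • (w' : W) := congrArg Subtype.val h
    by_contra hne
    refine hno ((w : W) - w') (sub_mem w.2 w'.2)
      (sub_ne_zero.mpr fun h => hne (Subtype.ext h)) ?_
    rw [map_sub, smul_sub]
    exact sub_eq_sub_iff_sub_eq_sub.mp h'
  let σ : Equiv.Perm Y := Equiv.ofBijective T' (Finite.injective_iff_bijective.mp hinj)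
  have hcomm : ∀ w, T (Q w) = Q (T w) := fun w => LinearMap.congr_fun hTQ.eq w
  have key : ∀ n : ℕ, Q (((σ ^ (n + 1)) ⟨y, hy⟩ : Y) : W) = 0 := by
    intro n
    induction n with
    | zero =>
      rw [pow_one]
      show Q (T y - c • y) = 0
      rw [map_sub, LinearMap.map_smul, ← hcomm, hev, sub_self]
    | succ n ih =>
      rw [pow_succ']
      show Q (T ((σ ^ (n + 1)) ⟨y, hy⟩ : Y) - c • (((σ ^ (n + 1)) ⟨y, hy⟩ : Y) : W)) = 0
      rw [map_sub, LinearMap.map_smul, ← hcomm, ih, map_zero, smul_zero, sub_zero]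
  have h1 := key (orderOf σ - 1)
  rw [Nat.sub_add_cancel (orderOf_pos σ), pow_orderOf_eq_one] at h1
  exact hv h1

theorem exists_generator : ∃ c : ZMod p, c ≠ 0 ∧ ∀ k : ℕ, c ^ k = 1 → p - 1 ∣ k := by
  obtain ⟨g, hg⟩ := IsCyclic.exists_ofOrder_eq_natCard (α := (ZMod p)ˣ)
  refine ⟨g, g.ne_zero, fun k hk => ?_⟩
  rw [Nat.card_eq_fintype_card, ZMod.card_units] at hg
  rw [← hg]
  exact orderOf_dvd_of_pow_eq_one (Units.ext (by simpa using hk))

namespace PairHyp

variable [Finite Γ] [Finite W] {f : Γ →* Module.End (ZMod p) W} {S B : Subgroup Γ} {y : W}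
variable (P : PairHyp f S B y)
include P

theorem fixer_le : fixer f y ≤ B :=
  P.maximal _ P.fixed (ker_le_fixer f y) fun h => by
    obtain ⟨g, hg⟩ := P.moved
    exact hg ((h ▸ mem_top g : g ∈ fixer f y))

theorem ker_le : f.ker ≤ B := (ker_le_fixer f y).trans P.fixer_le

theorem normalizer_le_or_eq {R : Subgroup Γ} (hRS : R ≤ S) (hq : ∃ a ∈ R, IsQuad f a)
    (hS : S ≤ normalizer (R : Set Γ)) : normalizer (R : Set Γ) ≤ B := by
  obtain ⟨a, haR, ha⟩ := hq
  by_cases hX : normalizer (R : Set Γ) ⊔ f.ker = ⊤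
  · exfalso
    have hnormal : (R ⊔ f.ker).Normal := by
      rw [← normalizer_eq_top_iff, eq_top_iff, ← hX]
      refine sup_le (fun g hg => normalizer_sup_le hg ?_) (le_sup_right.trans le_normalizer)
      rw [normalizer_eq_top_iff.mpr f.normal_ker]
      exact mem_top g
    have h := P.core _ hnormal le_sup_right
      (sup_le ((le_inf le_sup_left hRS).trans le_sup_right) le_sup_left)
    exact ha.1 (MonoidHom.mem_ker.mp (h ▸ mem_sup_left haR))
  · exact le_sup_left.trans (P.maximal _ (hS.trans le_sup_left) le_sup_right hX)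

theorem exists_conj_le {T : Subgroup Γ} (hT : IsPGroup p T) (hTB : T ≤ B) :
    ∃ d ∈ B, cnj d T ≤ S := by
  obtain ⟨d, hd, hdT⟩ := (P.sylow.mono P.le le_top).exists_conj hTB hT
  rw [Fusion.Basic.img_cj] at hdT
  exact ⟨d, hd, hdT⟩

/-- Fusion of a quadratic element not realised in `B` gives a larger normaliser outside `B`. -/
theorem climb {T : Subgroup Γ} {c : Γ} (hT : T ≤ S) (hq : ∃ a ∈ T, IsQuad f a)
    (hc : cnj c T ≤ S) (hcB : c ∉ B) :
    ∃ R ≤ S, (∃ a ∈ R, IsQuad f a) ∧ ¬ normalizer (R : Set Γ) ≤ B ∧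
      Nat.card T < Nat.card ↥(S ⊓ normalizer (R : Set Γ)) := by
  suffices h : ∀ n, ∀ (T : Subgroup Γ) (c : Γ), Nat.card S - Nat.card T = n → T ≤ S →
      (∃ a ∈ T, IsQuad f a) → cnj c T ≤ S → c ∉ B →
      ∃ R ≤ S, (∃ a ∈ R, IsQuad f a) ∧ ¬ normalizer (R : Set Γ) ≤ B ∧
        Nat.card T < Nat.card ↥(S ⊓ normalizer (R : Set Γ)) from h _ T c rfl hT hq hc hcB
  intro n
  induction n using Nat.strong_induction_on with
  | _ n IH =>
  intro T c hn hT hq hc hcB
  have hlt : T < S := lt_of_le_of_ne hT fun hTS => by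
    subst hTS
    exact hcB (P.normalizer_le_or_eq le_rfl hq le_normalizer
      (mem_normalizer_of fun x hx => hc (conj_mem_cnj hx)))
  have hgrow := AbelianFixed.lt_inf_normalizer P.sylow.2.1 hlt
  by_cases hNT : normalizer (T : Set Γ) ≤ B
  swap
  · exact ⟨T, hT, hq, hNT,
      Set.Finite.card_lt_card (Set.toFinite _) (SetLike.coe_ssubset_coe.mpr hgrow)⟩
  have hlt' : cnj c T < S := lt_of_le_of_ne hc fun h => hlt.ne
    (eq_of_le_of_card_ge hT (le_of_eq (by rw [← h, card_cnj])))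
  have hgrow' := AbelianFixed.lt_inf_normalizer P.sylow.2.1 hlt'
  set T₁ := cnj c⁻¹ (S ⊓ normalizer (cnj c T : Set Γ)) with hT₁
  have hT₁B : T₁ ≤ B := by
    refine le_trans ?_ hNT
    refine (cnj_mono inf_le_right).trans ?_
    rw [cnj_normalizer, cnj_cnj, inv_mul_cancel, cnj_one]
  obtain ⟨d, hd, hdT⟩ := P.exists_conj_le ((P.sylow.2.1.to_le inf_le_left).map _) hT₁B
  have hTT₁ : T ≤ T₁ := by
    have h := cnj_mono (g := c⁻¹) (le_inf hc (le_normalizer (H := cnj c T)))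
    rwa [cnj_cnj, inv_mul_cancel, cnj_one] at h
  have hcard : Nat.card T < Nat.card (cnj d T₁) := by
    rw [card_cnj, hT₁, card_cnj, ← card_cnj c T]
    exact Set.Finite.card_lt_card (Set.toFinite _) (SetLike.coe_ssubset_coe.mpr hgrow')
  obtain ⟨a, haT, ha⟩ := hq
  have hb : Nat.card ↥(cnj d T₁) ≤ Nat.card S := card_le_of_le hdT
  obtain ⟨R, hR, hqR, hNR, hlt2⟩ := IH _ (by omega) (cnj d T₁) (c * d⁻¹) rfl hdT
    ⟨_, conj_mem_cnj (hTT₁ haT), ha.conj d⟩
    (by
      rw [hT₁, cnj_cnj, cnj_cnj, inv_mul_cancel_right, mul_inv_cancel, cnj_one]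
      exact inf_le_left)
    (fun h => hcB ((mul_mem_cancel_right (inv_mem hd)).mp h))
  exact ⟨R, hR, hqR, hNR, hcard.trans hlt2⟩

/-- The case in which no subgroup with a quadratic element has its normaliser outside `B`. -/
theorem concl_of_empty (hp : p ≠ 2)
    (hR : ∀ R ≤ S, (∃ a ∈ R, IsQuad f a) → normalizer (R : Set Γ) ≤ B) :
    PairConcl f B y := by
  classical
  obtain ⟨a, haS, ha⟩ := P.quad
  have hfus : ∀ c : Γ, c * a * c⁻¹ ∈ S → c ∈ B := by
    intro c hc
    by_contra hcB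
    obtain ⟨R, hRS, hqR, hNR, -⟩ := P.climb (T := zpowers a) (zpowers_le.mpr haS)
      ⟨a, mem_zpowers a, ha⟩ (by
        rw [cnj, MonoidHom.map_zpowers, zpowers_le]
        exact hc) hcB
    exact hNR (hR R hRS hqR)
  -- `p`-subgroups through `a`
  have hpB : ∀ T : Subgroup Γ, IsPGroup p T → a ∈ T → T ≤ B ∧ normalizer (T : Set Γ) ≤ B := by
    intro T hT haT
    obtain ⟨d, -, hdT⟩ := P.sylow.exists_conj le_top hT
    rw [Fusion.Basic.img_cj] at hdT
    have hdB : d ∈ B := hfus d (hdT (conj_mem_cnj haT))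
    have hN := hR _ hdT ⟨_, conj_mem_cnj haT, ha.conj d⟩
    refine ⟨fun t ht => ?_, fun t ht => ?_⟩
    · have := P.le (hdT (conj_mem_cnj ht))
      simpa [mul_assoc] using mul_mem (mul_mem (inv_mem hdB) this) hdB
    · have h2 : d * t * d⁻¹ ∈ normalizer (cnj d T : Set Γ) :=
        (cnj_normalizer d T).le (conj_mem_cnj ht)
      have := hN h2
      simpa [mul_assoc] using mul_mem (mul_mem (inv_mem hdB) this) hdB
  -- a conjugate of `a` outside `B`
  obtain ⟨g, hg⟩ : ∃ g : Γ, g * a * g⁻¹ ∉ B := by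
    by_contra hall
    push Not at hall
    have haN : a ∈ B.normalCore := fun g => hall g
    have hsyl := P.sylow.inf_normal (N := B.normalCore) le_top
      (by rw [normalizer_eq_top_iff.mpr inferInstance])
    refine P.ne_top (eq_top_iff.mpr fun g _ => ?_)
    obtain ⟨k, hk, hkg⟩ := frattini (M := ⊤) (by rw [normalizer_eq_top_iff.mpr inferInstance])
      hsyl (mem_top g)
    exact (mul_mem_cancel_left (B.normalCore_le hk)).mp
      (hR _ inf_le_left ⟨a, ⟨haS, haN⟩, ha⟩ hkg)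
  set b := g * a * g⁻¹ with hb
  have hbq : IsQuad f b := ha.conj g
  set K := closure ({a, b} : Set Γ) with hK
  have haK : a ∈ K := subset_closure (Or.inl rfl)
  have hbK : b ∈ K := subset_closure (Or.inr rfl)
  have hKB : ¬ K ≤ B := fun h => hg (h hbK)
  let a' : K := ⟨a, haK⟩
  let b' : K := ⟨b, hbK⟩
  have hgen : closure ({a', b'} : Set K) = ⊤ := by
    apply Subgroup.map_injective K.subtype_injective
    rw [MonoidHom.map_closure, ← MonoidHom.range_eq_map, range_subtype, Set.image_pair]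
    rfl
  let L : K →* Module.End (ZMod p) W := f.comp K.subtype
  have hα : (L a' - 1) * (L a' - 1) = 0 := ha.2
  have hβ : (L b' - 1) * (L b' - 1) = 0 := hbq.2
  have hya : (L a' - 1) y = 0 := by
    show (f a - 1) y = 0
    rw [LinearMap.sub_apply, Module.End.one_apply, P.fixed a haS, sub_self]
  set z := (L a' - 1) * (L b' - 1) + (L b' - 1) * (L a' - 1) with hz
  have hzc : ∀ k : K, Commute (L k) z := by
    intro k
    have hk : k ∈ closure ({a', b'} : Set K) := hgen ▸ mem_top k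
    induction hk using closure_induction with
    | mem x hx =>
      have h1 : Commute (L a' - 1) z := by
        show _ * _ = _ * _
        rw [hz, mul_add, add_mul, ← mul_assoc, hα, mul_assoc (L b' - 1) _ (L a' - 1), hα]
        simp [mul_assoc]
      have h2 : Commute (L b' - 1) z := by
        show _ * _ = _ * _
        rw [hz, mul_add, add_mul, ← mul_assoc (L b' - 1) (L b' - 1), hβ,
          mul_assoc (L a' - 1) (L b' - 1) (L b' - 1), hβ]
        simp [mul_assoc]
      rcases hx with rfl | rfl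
      · simpa using h1.add_left (Commute.one_left z)
      · simpa using h2.add_left (Commute.one_left z)
    | one => rw [map_one]; exact Commute.one_left z
    | mul x x' _ _ h h' => rw [map_mul]; exact h.mul_left h'
    | inv x _ h =>
      have e1 : L x⁻¹ * L x = 1 := by rw [← map_mul, inv_mul_cancel, map_one]
      have e2 : L x * L x⁻¹ = 1 := by rw [← map_mul, mul_inv_cancel, map_one]
      show L x⁻¹ * z = z * L x⁻¹
      calc L x⁻¹ * z = L x⁻¹ * (z * L x) * L x⁻¹ := by rw [mul_assoc, mul_assoc, e2, mul_one]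
        _ = L x⁻¹ * (L x * z) * L x⁻¹ := by rw [h.eq]
        _ = z * L x⁻¹ := by rw [← mul_assoc, e1, one_mul]
  by_cases hn : ∃ n : ℕ, (z ^ n) y = 0
  · exfalso
    obtain ⟨n, hn⟩ := hn
    set W' := LinearMap.ker (z ^ n) with hW'
    have hinv : ∀ k : K, ∀ w ∈ W', L k w ∈ W' := fun k w hw => by
      rw [hW', LinearMap.mem_ker] at hw ⊢
      rw [← Module.End.mul_apply, ← ((hzc k).pow_right n).eq, Module.End.mul_apply, hw, map_zero]
    let L' : K →* Module.End (ZMod p) W' :=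
      { toFun := fun k => (L k).restrict (hinv k)
        map_one' := LinearMap.ext fun w => Subtype.ext (by simp)
        map_mul' := fun s t => LinearMap.ext fun w => Subtype.ext (by simp) }
    have hL' : ∀ k (w : W'), ((L' k w : W') : W) = L k w := fun k w => rfl
    have hα' : (L' a' - 1) * (L' a' - 1) = 0 := LinearMap.ext fun w => Subtype.ext (by
      have := LinearMap.congr_fun hα (w : W)
      simpa [hL'] using this)
    have hβ' : (L' b' - 1) * (L' b' - 1) = 0 := LinearMap.ext fun w => Subtype.ext (by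
      have := LinearMap.congr_fun hβ (w : W)
      simpa [hL'] using this)
    set z' := (L' a' - 1) * (L' b' - 1) + (L' b' - 1) * (L' a' - 1) with hz'
    have hz'c : ∀ m (w : W'), (((z' ^ m) w : W') : W) = (z ^ m) (w : W) := by
      intro m
      induction m with
      | zero => intro w; simp
      | succ m ih =>
        intro w
        rw [pow_succ, pow_succ, Module.End.mul_apply, Module.End.mul_apply, ih]
        congr 1
    have hnil : IsNilpotent z' := ⟨n, LinearMap.ext fun w => Subtype.ext (by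
      rw [hz'c]
      exact LinearMap.mem_ker.mp w.2)⟩
    obtain ⟨SK, hSK, hSKs⟩ := exists_sylIn (B := K) (zpowers_le.mpr haK)
      (P.sylow.2.1.to_le (zpowers_le.mpr haS))
    refine hKB (le_of_pPrime hSKs (hpB SK hSKs.2.1 (hSK (mem_zpowers a))).1 fun h hh hcop => ?_)
    obtain ⟨k, hk⟩ := Rep.pow_eq_one_of_nilpotent p L' hgen hα' hβ' hnil ⟨h, hh⟩
    have h1 : f (h ^ p ^ k) y = y := by
      have := congrArg Subtype.val (LinearMap.congr_fun hk ⟨y, LinearMap.mem_ker.mpr hn⟩)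
      simpa [hL', L] using this
    obtain ⟨m, hm⟩ := exists_pow_eq_self_of_coprime
      (show (p ^ k).Coprime (orderOf h) from (Nat.Coprime.pow_left k hcop.symm))
    rw [← hm]
    exact pow_mem (P.fixer_le (show h ^ p ^ k ∈ fixer f y from h1)) m
  push Not at hn
  haveI : CharP (ZMod p) p := ZMod.charP p
  obtain ⟨F, _, _, _, r, ρ, ι, hr, hι, hρa, hρb, hρ, hιy⟩ :=
    exists_plane_at p L hgen hα hβ hya hn
  -- Dickson
  set Kb := closure ({ρ a', ρ b'} : Set SL(2, F)) with hKbar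
  have hKr : ρ.range = Kb := by
    rw [MonoidHom.range_eq_map, ← hgen, MonoidHom.map_closure, Set.image_pair]
  have hnp : ¬ IsPGroup p Kb := by
    intro hP
    obtain ⟨T, hT⟩ := hP.exists_le_sylow
    obtain ⟨d, hd⟩ := Classical.GL2.exists_eq_conj_U p T
    subst hd
    have hmem : ∀ x, x ∈ ((d • Classical.GL2.sylowSL p : Sylow p SL(2, F)) : Subgroup SL(2, F)) →
        ∃ c, d⁻¹ * x * d = Classical.GL2.uniSL c := fun x hx => by
      rw [Sylow.coe_subgroup_smul, Subgroup.mem_pointwise_smul_iff_inv_smul_mem,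
        Classical.GL2.coe_sylowSL] at hx
      obtain ⟨c, hc⟩ := hx
      exact ⟨c.toAdd, by simpa [MulAut.smul_def, Classical.GL2.uniHom] using hc.symm⟩
    obtain ⟨c, hc⟩ := hmem _ (hT (subset_closure (Or.inl rfl)))
    obtain ⟨c', hc'⟩ := hmem _ (hT (subset_closure (Or.inr rfl)))
    have hcomm : ρ a' * ρ b' = ρ b' * ρ a' := by
      have e1 : ρ a' = d * Classical.GL2.uniSL c * d⁻¹ := by rw [← hc]; group
      have e2 : ρ b' = d * Classical.GL2.uniSL c' * d⁻¹ := by rw [← hc']; group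
      rw [e1, e2]
      calc d * Classical.GL2.uniSL c * d⁻¹ * (d * Classical.GL2.uniSL c' * d⁻¹)
          = d * (Classical.GL2.uniSL c * Classical.GL2.uniSL c') * d⁻¹ := by group
        _ = d * (Classical.GL2.uniSL c' * Classical.GL2.uniSL c) * d⁻¹ := by
            rw [Classical.GL2.uniSL_mul, Classical.GL2.uniSL_mul, add_comm]
        _ = _ := by group
    have h00 := congrFun (congrFun (congrArg Subtype.val hcomm) 0) 0
    rw [hρa, hρb] at h00
    simp [Classical.GL2.coe_uniSL, Classical.GL2.coe_lowSL] at h00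
    exact hr h00
  have hpow : ∀ x : K, (L x - 1) * (L x - 1) = 0 → ρ x ^ p = 1 := by
    intro x hx
    rw [← map_pow]
    refine Classical.GL2.sl_ext (Matrix.ext_iff_mulVec.2 fun w => hι ?_)
    rw [← hρ, map_pow]
    have : L x ^ p = 1 := by
      rcases subsingleton_or_nontrivial W with hW0 | hW0
      · exact LinearMap.ext fun w => Subsingleton.elim _ _
      haveI : CharP (Module.End (ZMod p) W) p :=
        charP_of_injective_algebraMap (algebraMap (ZMod p) _).injective p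
      have h2 : (L x - 1) ^ p = 0 :=
        pow_eq_zero_of_le (Fact.out : p.Prime).two_le (by rw [pow_two]; exact hx)
      rwa [sub_pow_char_of_commute _ (Commute.one_right _), one_pow, sub_eq_zero] at h2
    rw [this]
    simp
  have hcard := Pairs.one_lt_card_sylow (p := p) (hpow a' hα) (hpow b' hβ) hnp
  obtain ⟨φ', hφ'⟩ := Main.hasSL2 p hp _ hcard
  -- a Sylow subgroup of the image
  have haKb : ρ a' ∈ Kb := subset_closure (Or.inl rfl)
  obtain ⟨P₀, hP₀⟩ : ∃ P₀ : Sylow p Kb, (⟨ρ a', haKb⟩ : Kb) ∈ P₀ := by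
    have hq : IsPGroup p (zpowers (⟨ρ a', haKb⟩ : Kb)) := by
      obtain ⟨m, -, hm⟩ := (Nat.dvd_prime_pow (Fact.out : p.Prime)).1
        (orderOf_dvd_of_pow_eq_one (show (⟨ρ a', haKb⟩ : Kb) ^ p ^ 1 = 1 from
          Subtype.ext (by simpa using hpow a' hα)))
      exact IsPGroup.of_card (by rw [Nat.card_zpowers, hm])
    obtain ⟨Q, hQ⟩ := hq.exists_le_sylow
    exact ⟨Q, hQ (mem_zpowers _)⟩
  have hinjK : Function.Injective Kb.subtype := Kb.subtype_injective
  have hu1 : (⟨ρ a', haKb⟩ : Kb) ≠ 1 := fun h => hr (by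
    have h2 := congrFun (congrFun (congrArg Subtype.val (congrArg Subtype.val h)) 0) 1
    simp [hρa, Classical.GL2.coe_uniSL] at h2
    exact h2)
  have hPup : ∀ x ∈ P₀, Basic.mat Kb.subtype x 1 0 = 0 ∧ Basic.mat Kb.subtype x 0 0 = 1 := by
    intro x hx
    have hc := congrArg (fun w : Kb => Basic.mat Kb.subtype w)
      (Borel.sylow_commute p hinjK hp (a := x) (b := ⟨ρ a', haKb⟩) hx hP₀).eq
    simp only [Basic.mat_mul] at hc
    have hu : Basic.mat Kb.subtype (⟨ρ a', haKb⟩ : Kb) = !![1, r; 0, 1] := by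
      simp [Basic.mat, hρa, Classical.GL2.coe_uniSL]
    rw [hu] at hc
    have e00 := congrFun (congrFun hc 0) 0
    have e01 := congrFun (congrFun hc 0) 1
    simp [Matrix.mul_apply, Fin.sum_univ_two] at e00 e01
    have h10 : Basic.mat Kb.subtype x 1 0 = 0 := e00.resolve_left hr
    refine ⟨h10, ?_⟩
    have h11 : Basic.mat Kb.subtype x 0 0 = Basic.mat Kb.subtype x 1 1 :=
      mul_right_cancel₀ hr (by linear_combination e01)
    obtain ⟨k, hk⟩ := P₀.isPGroup' ⟨x, hx⟩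
    have ht := Basic.trace_of_pow (ι := Kb.subtype) p (congrArg Subtype.val hk)
    rw [Matrix.trace_fin_two, ← h11] at ht
    exact mul_left_cancel₀ (Basic.two_ne_zero' p hp) (by linear_combination ht)
  obtain ⟨φ₁, hφ₁, hφt⟩ : ∃ φ₁ : SL(2, ZMod p) →* Kb, Function.Injective φ₁ ∧
      φ₁ (Classical.GL2.uniSL 1) ∈ P₀ := by
    have hq : IsPGroup p (zpowers (φ' (Classical.GL2.uniSL 1))) := by
      have h1 : (φ' (Classical.GL2.uniSL (1 : ZMod p))) ^ p ^ 1 = 1 := by
        rw [pow_one, ← map_pow, Basic.pow_eq_one_of_trace p (ι := MonoidHom.id _)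
          Function.injective_id (by
            simp [Basic.mat, Classical.GL2.coe_uniSL, Matrix.trace_fin_two]; norm_num), map_one]
      obtain ⟨m, -, hm⟩ := (Nat.dvd_prime_pow (Fact.out : p.Prime)).1
        (orderOf_dvd_of_pow_eq_one h1)
      exact IsPGroup.of_card (by rw [Nat.card_zpowers, hm])
    obtain ⟨Q, hQ⟩ := hq.exists_le_sylow
    obtain ⟨d, hd⟩ := MulAction.exists_smul_eq Kb Q P₀
    refine ⟨(MulAut.conj d).toMonoidHom.comp φ', (MulAut.conj d).injective.comp hφ', ?_⟩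
    rw [← hd]
    show _ ∈ ((d • Q : Sylow p Kb) : Subgroup Kb)
    rw [Sylow.coe_subgroup_smul]
    exact ⟨_, hQ (mem_zpowers _), rfl⟩
  set φ : SL(2, ZMod p) →* SL(2, F) := Kb.subtype.comp φ₁ with hφdef
  have hφ : Function.Injective φ := hinjK.comp hφ₁
  obtain ⟨Pm, hPm, hPM⟩ := Natural.exists_basis hp φ hφ
  set cast := ZMod.castHom (dvd_refl p) F with hcast
  have hP10 : Pm 1 0 = 0 := by
    obtain ⟨h10, h00⟩ := hPup _ hφt
    have h01 : Basic.mat Kb.subtype (φ₁ (Classical.GL2.uniSL 1)) 0 1 ≠ 0 := by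
      intro h01
      have hd := Basic.det_mat Kb.subtype (φ₁ (Classical.GL2.uniSL 1))
      rw [Matrix.det_fin_two, h10, h00] at hd
      simp at hd
      have hone : φ₁ (Classical.GL2.uniSL (1 : ZMod p)) = 1 := by
        refine Basic.mat_injective Kb.subtype hinjK ?_
        rw [Basic.mat_one]
        ext i j
        fin_cases i <;> fin_cases j <;> simp [h00, h01, h10, hd]
      have h2 := congrFun (congrFun (congrArg Subtype.val
        (hφ₁ (hone.trans (map_one φ₁).symm))) 0) 1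
      simp [Classical.GL2.coe_uniSL] at h2
    have e := congrFun (congrFun (hPM (Classical.GL2.uniSL 1)) 0) 0
    change (Basic.mat Kb.subtype (φ₁ (Classical.GL2.uniSL 1)) * Pm) 0 0 = _ at e
    simp [Matrix.mul_apply, Fin.sum_univ_two, Classical.GL2.coe_uniSL, h00] at e
    exact e.resolve_left h01
  have hP00 : Pm 0 0 ≠ 0 := fun h => hPm (by rw [Matrix.det_fin_two, h, hP10]; ring)
  have hupper : ∀ M : SL(2, ZMod p), M.1 1 0 = 0 → Basic.mat Kb.subtype (φ₁ M) 1 0 = 0 := by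
    intro M hM
    have e := congrFun (congrFun (hPM M) 1) 0
    change (Basic.mat Kb.subtype (φ₁ M) * Pm) 1 0 = _ at e
    simp [Matrix.mul_apply, Fin.sum_univ_two, hP10, hM] at e
    exact e.resolve_right hP00
  let ρ' : K →* Kb := ρ.codRestrict Kb fun k => hKr.le ⟨k, rfl⟩
  set PiP : Subgroup K := (P₀ : Subgroup Kb).comap ρ' with hPiP
  have haP : a' ∈ PiP := hP₀
  have hazp : IsPGroup p (zpowers a') :=
    ((P.sylow.2.1.to_le (zpowers_le.mpr haS)).comap_of_injective K.subtype K.subtype_injective).to_le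
      (zpowers_le.mpr (mem_zpowers a))
  obtain ⟨T, haT, hT⟩ := exists_sylIn (B := PiP) (zpowers_le.mpr haP) hazp
  have hPT : PiP ≤ ρ'.ker ⊔ T := le_of_pPrime hT le_sup_right fun k hk hcop => by
    refine mem_sup_left (MonoidHom.mem_ker.mpr ?_)
    have hk' : ρ' k ∈ (P₀ : Subgroup Kb) := hk
    obtain ⟨m, hm⟩ := IsPGroup.iff_orderOf.mp P₀.isPGroup' ⟨ρ' k, hk'⟩
    have e : orderOf (ρ' k) = p ^ m := (Subgroup.orderOf_coe _).trans hm
    refine orderOf_eq_one_iff.mp (Nat.eq_one_of_dvd_coprimes (Nat.Coprime.pow_right m hcop)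
      (orderOf_map_dvd ρ' k) ?_)
    rw [e]
  have hTB : normalizer (T : Set K) ≤ B.subgroupOf K := fun k hk => by
    exact (hpB (T.map K.subtype) (hT.2.1.map _) ⟨a', haT (mem_zpowers a'), rfl⟩).2
      (le_normalizer_map K.subtype ⟨k, hk, rfl⟩)
  set E₀ : Subgroup K := ((upper p).map φ₁).comap ρ' ⊓ normalizer (T : Set K) with hE₀
  have hsurj : ∀ M ∈ upper p, ∃ k ∈ E₀, ρ' k = φ₁ M := by
    intro M hM
    obtain ⟨k, hk⟩ : ∃ k : K, ρ' k = φ₁ M := by
      obtain ⟨k, hk⟩ := hKr.ge (φ₁ M).2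
      exact ⟨k, Subtype.ext hk⟩
    have hkN : k ∈ normalizer (PiP : Set K) := mem_normalizer_of fun x hx => by
      rw [hPiP, Subgroup.mem_comap, map_mul, map_mul, map_inv, hk]
      exact Borel.conj_mem_of_upper p hinjK hPup (hupper M hM) hx
    obtain ⟨k₁, hpi, hpk⟩ := frattini (N := PiP) (M := normalizer (PiP : Set K)) le_rfl hT hkN
    obtain ⟨n, hn, t, ht, rfl⟩ := mem_sup_of_normal_left.mp (hPT hpi)
    have hkey : ρ' (t⁻¹ * (n * t * k)) = φ₁ M := by
      rw [MonoidHom.mem_ker] at hn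
      simp [hn, hk]
    refine ⟨_, mem_inf.mpr ⟨Subgroup.mem_comap.mpr (hkey ▸ ⟨M, hM, rfl⟩), ?_⟩, hkey⟩
    exact mul_mem (inv_mem (le_normalizer ht)) hpk
  let eφ := MonoidHom.ofInjective hφ₁
  let θ₀ : E₀ →* SL(2, ZMod p) := eφ.symm.toMonoidHom.comp
    ((ρ'.comp E₀.subtype).codRestrict φ₁.range fun k => by
      obtain ⟨M, -, hM⟩ := Subgroup.mem_comap.mp (mem_inf.mp k.2).1
      exact ⟨M, hM⟩)
  have hθ₀ : ∀ k : E₀, φ₁ (θ₀ k) = ρ' k := fun k =>
    congrArg Subtype.val (eφ.apply_symm_apply _)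
  let eE := (E₀.equivMapOfInjective K.subtype K.subtype_injective).symm
  have heE : ∀ e : E₀.map K.subtype, (e : Γ) = ((eE e : K) : Γ) := fun e => by
    conv_lhs => rw [← eE.symm_apply_apply e]
    rfl
  let jj : (Fin 2 → ZMod p) →+ W :=
    { toFun := fun x => ι (Pm *ᵥ (cast ∘ x))
      map_zero' := by
        rw [show cast ∘ (0 : Fin 2 → ZMod p) = 0 from funext fun i => map_zero cast, mulVec_zero,
          map_zero]
      map_add' := fun x x' => by
        rw [show cast ∘ (x + x') = cast ∘ x + cast ∘ x' from funext fun i => map_add cast _ _,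
          mulVec_add, map_add] }
  have hjinj : Function.Injective jj := fun x x' h => by
    have h3 : cast ∘ x = cast ∘ x' := Matrix.mulVec_injective_iff_isUnit.2
      ((Matrix.isUnit_iff_isUnit_det Pm).2 (isUnit_iff_ne_zero.2 hPm)) (hι h)
    exact funext fun i => cast.injective (congrFun h3 i)
  have hact : ∀ (k : E₀) x, L (k : K) (jj x) = jj ((θ₀ k).1 *ᵥ x) := by
    intro k x
    show L (k : K) (ι (Pm *ᵥ (cast ∘ x))) = ι (Pm *ᵥ (cast ∘ _))
    have hθ : φ (θ₀ k) = ρ k := congrArg Subtype.val (hθ₀ k)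
    rw [hρ, ← hθ, mulVec_mulVec, hPM, ← mulVec_mulVec]
    congr 2
    funext i
    simp [Matrix.mulVec, dotProduct, Fin.sum_univ_two, Function.comp, hcast]
  obtain ⟨c, hc0, hc⟩ := exists_generator (p := p)
  let M₀ : SL(2, ZMod p) := ⟨!![c, 0; 0, c⁻¹], by simp [Matrix.det_fin_two, hc0]⟩
  obtain ⟨h₀, hh₀, hh₀M⟩ := hsurj M₀ (by show M₀.1 1 0 = 0; simp [M₀])
  have hθh : θ₀ ⟨h₀, hh₀⟩ = M₀ := hφ₁ ((hθ₀ _).trans hh₀M)
  refine ⟨E₀.map K.subtype, θ₀.comp eE.toMonoidHom, jj, ?_, hjinj, fun e x => ?_, ?_,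
    (h₀ : Γ), hTB (mem_inf.mp hh₀).2, c, hc0, hc, fun Y hy hYinv => ?_⟩
  · rintro _ ⟨k, hk, rfl⟩
    exact hTB (mem_inf.mp hk).2
  · show f (e : Γ) (jj x) = _
    rw [heE e]
    exact hact (eE e) x
  · apply le_antisymm
    · rintro _ ⟨e, rfl⟩
      obtain ⟨M, hM, hMe⟩ := Subgroup.mem_comap.mp (mem_inf.mp (eE e).2).1
      have : θ₀ (eE e) = M := hφ₁ ((hθ₀ _).trans hMe.symm)
      show θ₀ (eE e) ∈ upper p
      rw [this]; exact hM
    · intro M hM
      obtain ⟨k, hk, hkM⟩ := hsurj M hM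
      refine ⟨eE.symm ⟨k, hk⟩, ?_⟩
      show θ₀ (eE (eE.symm _)) = M
      rw [eE.apply_symm_apply]
      exact hφ₁ ((hθ₀ _).trans hkM)
  · have hj0 : ∃ q : Polynomial (ZMod p), jj ![1, 0] = Polynomial.aeval z q y := by
      obtain ⟨q, hq⟩ := hιy (Pm 0 0)
      refine ⟨q, (congrArg ι ?_).trans hq⟩
      funext i
      fin_cases i <;> simp [Matrix.mulVec, dotProduct, Fin.sum_univ_two, hP10]
    obtain ⟨q, hq⟩ := hj0
    refine exists_eigen (Q := Polynomial.aeval z q) ?_ ?_ ?_ Y hy hYinv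
    · exact Algebra.commute_of_mem_adjoin_singleton_of_commute (R := ZMod p)
        (Polynomial.aeval_mem_adjoin_singleton (ZMod p) z) (hzc h₀)
    · rw [← hq]
      exact fun h => one_ne_zero (congrFun (hjinj (h.trans (map_zero jj).symm)) 0)
    · rw [← hq]
      have e1 : f (h₀ : Γ) (jj ![1, 0]) = jj (M₀.1 *ᵥ ![1, 0]) := by
        rw [← hθh]; exact hact ⟨h₀, hh₀⟩ _
      rw [e1, ← ZMod.map_smul jj c]
      congr 1
      funext i
      fin_cases i <;> simp [M₀, Matrix.mulVec, dotProduct, Fin.sum_univ_two]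

/-- A subgroup with quadratic elements and normaliser outside `B` leads to a smaller instance. -/
theorem exists_smaller (hne : ∃ R ≤ S, (∃ a ∈ R, IsQuad f a) ∧ ¬ normalizer (R : Set Γ) ≤ B) :
    ∃ (Y : Subgroup Γ) (W' : Submodule (ZMod p) W) (f' : Y →* Module.End (ZMod p) W')
      (hy : y ∈ W'), Nat.card Y < Nat.card Γ ∧
      (∀ (g : Y) (w : W'), ((f' g w : W') : W) = f g w) ∧
      PairHyp f' ((S ⊓ Y).subgroupOf Y) (B.subgroupOf Y) ⟨y, hy⟩ := by
  classical
  let 𝓡 : Set (Subgroup Γ) :=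
    {R | R ≤ S ∧ (∃ a ∈ R, IsQuad f a) ∧ ¬ normalizer (R : Set Γ) ≤ B}
  obtain ⟨R, ⟨hRS, hq, hNR⟩, hmax⟩ := Set.exists_max_image 𝓡
    (fun R => Nat.card ↥(S ⊓ normalizer (R : Set Γ)) * (Nat.card Γ + 1) + Nat.card R)
    (Set.toFinite _) (by obtain ⟨R, h⟩ := hne; exact ⟨R, h⟩)
  set N := normalizer (R : Set Γ) with hN
  set S' := S ⊓ N with hS'
  have hmax1 : ∀ R', R' ∈ 𝓡 → Nat.card ↥(S ⊓ normalizer (R' : Set Γ)) ≤ Nat.card S' := by
    intro R' h
    by_contra hlt
    have h1 := hmax R' h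
    have := card_le_card_group R
    rw [hS', hN] at hlt
    nlinarith [not_le.mp hlt]
  have hmax2 : ∀ R', R' ∈ 𝓡 → Nat.card S' ≤ Nat.card ↥(S ⊓ normalizer (R' : Set Γ)) →
      Nat.card R' ≤ Nat.card R := by
    intro R' h h'
    have h1 := hmax R' h
    have h2 : Nat.card ↥(S ⊓ normalizer (R' : Set Γ)) = Nat.card S' :=
      le_antisymm (hmax1 R' h) h'
    rw [h2] at h1
    omega
  obtain ⟨a₀, ha₀R, ha₀⟩ := hq
  have hRS' : R ≤ S' := le_inf hRS le_normalizer
  -- `N_S(R)` is a Sylow subgroup of `N(R)`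
  have hsyl : SylIn p S' N := by
    obtain ⟨T, hT, hTs⟩ := exists_sylIn (B := N) (inf_le_right : S' ≤ N)
      (P.sylow.2.1.to_le inf_le_left)
    obtain ⟨c, -, hc⟩ := P.sylow.exists_conj le_top hTs.2.1
    rw [Fusion.Basic.img_cj] at hc
    by_cases hcB : c ∈ B
    · have hR' : cnj c R ∈ 𝓡 := by
        refine ⟨(cnj_mono (hRS'.trans hT)).trans hc, ⟨_, conj_mem_cnj ha₀R, ha₀.conj c⟩,
          fun h => hNR fun x hx => ?_⟩
        have := h ((cnj_normalizer c R).le (conj_mem_cnj hx))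
        simpa [mul_assoc] using mul_mem (mul_mem (inv_mem hcB) this) hcB
      have h1 : cnj c T ≤ S ⊓ normalizer (cnj c R : Set Γ) :=
        le_inf hc ((cnj_mono hTs.1).trans (cnj_normalizer c R).le)
      have h2 := (card_le_of_le h1).trans (hmax1 _ hR')
      rw [card_cnj] at h2
      exact (show S' = T from eq_of_le_of_card_ge hT h2) ▸ hTs
    · obtain ⟨R'', h1, h2, h3, h4⟩ := P.climb (T := S') inf_le_left ⟨a₀, hRS' ha₀R, ha₀⟩
        ((cnj_mono hT).trans hc) hcB
      have := hmax1 R'' ⟨h1, h2, h3⟩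
      omega
  have hNtop : N ≠ ⊤ := by
    intro h
    have hRn : R.Normal := normalizer_eq_top_iff.mp h
    have hn : (R ⊔ f.ker).Normal := inferInstance
    have h2 := P.core _ hn le_sup_right
      (sup_le ((le_inf le_sup_left hRS).trans le_sup_right) le_sup_left)
    exact ha₀.1 (MonoidHom.mem_ker.mp (h2 ▸ mem_sup_left ha₀R))
  have hRnS : ¬ S ≤ N := fun h => hNR (P.normalizer_le_or_eq hRS ⟨a₀, ha₀R, ha₀⟩ h)
  -- a quadratic element of `N_S(R)` outside `R`
  obtain ⟨a, haS', haR, ha⟩ : ∃ a ∈ S', a ∉ R ∧ IsQuad f a := by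
    by_contra hall
    push Not at hall
    set R₀ := closure {a | a ∈ S' ∧ IsQuad f a} with hR₀
    have hR₀R : R₀ ≤ R := (closure_le _).mpr fun a ha => by_contra fun h => hall a ha.1 h ha.2
    have hinv : ∀ x ∈ normalizer (S' : Set Γ), x ∈ normalizer (R₀ : Set Γ) := fun x hx =>
      mem_normalizer_of fun w hw => by
        have : cnj x R₀ ≤ R₀ := by
          rw [cnj, hR₀, MonoidHom.map_closure, closure_le]
          rintro _ ⟨a, ⟨ha, haq⟩, rfl⟩
          exact subset_closure ⟨conj_mem hx ha, haq.conj x⟩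
        exact this (conj_mem_cnj hw)
    have hinvN : N ≤ normalizer (R₀ : Set Γ) := le_normalizer_of fun x hx w hw => by
      have : cnj x R₀ ≤ R₀ := by
        rw [cnj, hR₀, MonoidHom.map_closure, closure_le]
        rintro _ ⟨a, ⟨ha, haq⟩, rfl⟩
        exact subset_closure ⟨hRS' (conj_mem hx (hR₀R (subset_closure ⟨ha, haq⟩))), haq.conj x⟩
      exact this (conj_mem_cnj hw)
    have hmem : R₀ ∈ 𝓡 := ⟨hR₀R.trans hRS, ⟨a₀, subset_closure ⟨hRS' ha₀R, ha₀⟩, ha₀⟩,
      fun h => hNR (hinvN.trans h)⟩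
    have hS'lt : S' < S := lt_of_le_of_ne inf_le_left fun h => hRnS (h ▸ inf_le_right)
    have hgrow := AbelianFixed.lt_inf_normalizer P.sylow.2.1 hS'lt
    have h1 : S ⊓ normalizer (S' : Set Γ) ≤ S ⊓ normalizer (R₀ : Set Γ) := fun x hx =>
      ⟨hx.1, hinv x hx.2⟩
    have h2 := (card_le_of_le h1).trans (hmax1 _ hmem)
    have h3 : Nat.card S' < Nat.card ↥(S ⊓ normalizer (S' : Set Γ)) :=
      Set.Finite.card_lt_card (Set.toFinite _) (SetLike.coe_ssubset_coe.mpr hgrow)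
    omega
  -- a minimal subgroup of `N(R)` outside `B`
  let 𝒴 : Set (Subgroup Γ) := {Y | S' ≤ Y ∧ f.ker ⊓ N ≤ Y ∧ Y ≤ N ∧ ¬ Y ≤ B}
  obtain ⟨Y, ⟨hSY, hkY, hYN, hYB⟩, hmin⟩ := Set.exists_min_image 𝒴 (fun Y => Nat.card Y)
    (Set.toFinite _) ⟨N, inf_le_right, inf_le_right, le_rfl, hNR⟩
  let W' : Submodule (ZMod p) W :=
    { carrier := {w | ∀ r ∈ R, f r w = w}
      zero_mem' := fun r _ => map_zero _
      add_mem' := fun {u w} hu hw r hr => by rw [map_add, hu r hr, hw r hr]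
      smul_mem' := fun c w hw r hr => by rw [LinearMap.map_smul, hw r hr] }
  have hinv : ∀ g : Y, ∀ w ∈ W', f (g : Γ) w ∈ W' := by
    intro g w hw r hr
    have h1 := hw _ (inv_conj_mem (hYN g.2) hr)
    calc f r (f (g : Γ) w) = f (g : Γ) (f ((g : Γ)⁻¹ * r * g) w) := by
          rw [← Module.End.mul_apply, ← map_mul, ← Module.End.mul_apply, ← map_mul]
          congr 1
          group
      _ = _ := by rw [h1]
  let f' : Y →* Module.End (ZMod p) W' :=
    { toFun := fun g => (f (g : Γ)).restrict (hinv g)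
      map_one' := LinearMap.ext fun w => Subtype.ext (by simp)
      map_mul' := fun s t => LinearMap.ext fun w => Subtype.ext (by simp) }
  have hf' : ∀ (g : Y) (w : W'), ((f' g w : W') : W) = f g w := fun g w => rfl
  have hyW : y ∈ W' := fun r hr => P.fixed r (hRS hr)
  refine ⟨Y, W', f', hyW, ?_, hf', ?_⟩
  · refine lt_of_le_of_lt (card_le_of_le hYN) (lt_of_le_of_ne (card_le_card_group N) fun h => ?_)
    exact hNtop (eq_top_of_card_eq N h)
  have hS'Y : S ⊓ Y = S' := le_antisymm (inf_le_inf_left _ hYN) (le_inf inf_le_left hSY)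
  rw [hS'Y]
  set Sy := S'.subgroupOf Y with hSy
  set By := B.subgroupOf Y with hBy
  have hsylY : SylIn p Sy ⊤ := by
    obtain ⟨T, hT⟩ := (sylIn_iff_exists hSY).1 (hsyl.mono hSY hYN)
    rw [hSy, ← hT]
    exact of_sylow T
  have hkerY : ∀ g : Y, (g : Γ) ∈ f.ker → g ∈ f'.ker := fun g hg => MonoidHom.mem_ker.mpr
    (LinearMap.ext fun w => Subtype.ext (by rw [hf', MonoidHom.mem_ker.mp hg]; rfl))
  have hkB : f'.ker ≤ By := fun g hg => P.fixer_le (by
    have h := congrArg Subtype.val (LinearMap.congr_fun (MonoidHom.mem_ker.mp hg) ⟨y, hyW⟩)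
    rw [hf'] at h
    exact h)
  have hSB : Sy ≤ By := fun g hg => P.le (mem_subgroupOf.mp hg).1
  have hBtop : By ≠ ⊤ := fun h => hYB (subgroupOf_eq_top.mp h)
  have hmaxY : ∀ X : Subgroup Y, Sy ≤ X → f'.ker ≤ X → X ≠ ⊤ → X ≤ By := by
    intro X hSX hkX hXtop
    by_contra hXB
    refine hXtop (eq_top_of_card_eq X (le_antisymm (card_le_card_group X) ?_))
    have hmem : X.map Y.subtype ∈ 𝒴 := by
      refine ⟨fun s hs => ⟨⟨s, hSY hs⟩, hSX hs, rfl⟩,
        fun k hk => ⟨⟨k, hkY hk⟩, hkX (hkerY _ hk.1), rfl⟩,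
        (map_subtype_le X).trans hYN, fun h => hXB fun x hx => h ⟨x, hx, rfl⟩⟩
    have h1 := hmin _ hmem
    rwa [card_map_of_injective Y.subtype_injective] at h1
  have hRker : R.subgroupOf Y ≤ f'.ker := fun r hr => MonoidHom.mem_ker.mpr
    (LinearMap.ext fun w => Subtype.ext (by rw [hf']; exact w.2 r hr))
  -- the normal subgroups covered by the kernel and `N_S(R)`
  have hcoreR : ∀ M : Subgroup Y, M.Normal → f'.ker ≤ M → M ≤ f'.ker ⊔ M ⊓ Sy →
      M ⊓ Sy ≤ f'.ker ∧ (M ⊓ Sy).map Y.subtype = R := by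
    intro M hM hkM hMle
    have hMB : M ≤ By := hMle.trans (sup_le hkB (inf_le_right.trans hSB))
    have hMs : SylIn p (Sy ⊓ M) M := hsylY.inf_normal le_top
      (by rw [normalizer_eq_top_iff.mpr hM])
    rw [inf_comm] at hMs
    set R₂ := (M ⊓ Sy).map Y.subtype with hR₂
    have hRR₂ : R ≤ R₂ := fun r hr =>
      ⟨⟨r, hSY (hRS' hr)⟩, ⟨hkM (hRker hr), hRS' hr⟩, rfl⟩
    have hR₂S' : R₂ ≤ S' := by
      rintro _ ⟨g, hg, rfl⟩
      exact hg.2
    have hR₂N : ¬ normalizer (R₂ : Set Γ) ≤ B := by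
      intro h
      refine hBtop (eq_top_iff.mpr fun g _ => ?_)
      obtain ⟨k, hk, hkg⟩ := frattini (M := ⊤) (by rw [normalizer_eq_top_iff.mpr hM]) hMs
        (mem_top g)
      exact (mul_mem_cancel_left (hMB hk)).mp
        (h (le_normalizer_map Y.subtype ⟨_, hkg, rfl⟩))
    have hmem : R₂ ∈ 𝓡 := ⟨hR₂S'.trans inf_le_left, ⟨a₀, hRR₂ ha₀R, ha₀⟩, hR₂N⟩
    have hS'N : S' ≤ normalizer (R₂ : Set Γ) := le_normalizer_of fun s hs w hw => by
      obtain ⟨g, hg, rfl⟩ := hw
      refine ⟨⟨s, hSY hs⟩ * g * ⟨s, hSY hs⟩⁻¹, mem_inf.mpr ⟨hM.conj_mem _ hg.1 _, ?_⟩, rfl⟩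
      exact mul_mem (mul_mem (show (⟨s, hSY hs⟩ : Y) ∈ Sy from hs) hg.2)
        (inv_mem (show (⟨s, hSY hs⟩ : Y) ∈ Sy from hs))
    have heq : R₂ = R := (eq_of_le_of_card_ge hRR₂
      (hmax2 _ hmem (card_le_of_le (le_inf inf_le_left hS'N)))).symm
    refine ⟨fun g hg => hRker ?_, heq⟩
    have : (g : Γ) ∈ R₂ := ⟨g, hg, rfl⟩
    rw [heq] at this
    exact this
  refine ⟨hsylY, hSB, hBtop, hmaxY, fun s hs => Subtype.ext ?_, ?_, ?_, ⟨⟨a, hSY haS'⟩, haS', ?_, ?_⟩⟩
  · rw [hf']; exact P.fixed s (mem_subgroupOf.mp hs).1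
  · by_contra hall
    push Not at hall
    refine hYB fun g hg => P.fixer_le ?_
    have := congrArg Subtype.val (hall ⟨g, hg⟩)
    rw [hf'] at this
    exact this
  · intro M hM hkM hMle
    exact le_antisymm (hMle.trans (sup_le le_rfl (hcoreR M hM hkM hMle).1)) hkM
  · intro h1
    refine haR ?_
    rw [← (hcoreR f'.ker inferInstance le_rfl le_sup_left).2]
    exact ⟨⟨a, hSY haS'⟩, ⟨MonoidHom.mem_ker.mpr h1, haS'⟩, rfl⟩
  · refine LinearMap.ext fun w => Subtype.ext ?_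
    have := LinearMap.congr_fun ha.2 (w : W)
    simpa [hf'] using this

end PairHyp

/-- The pair theorem. -/
theorem pairConcl_of_hyp (hp : p ≠ 2) : ∀ {Γ : Type u} [Group Γ] [Finite Γ] {W : Type v}
    [AddCommGroup W] [Module (ZMod p) W] [Finite W] {f : Γ →* Module.End (ZMod p) W}
    {S B : Subgroup Γ} {y : W}, PairHyp f S B y → PairConcl f B y := by
  suffices h : ∀ n : ℕ, ∀ (Γ : Type u) [Group Γ] [Finite Γ] (W : Type v) [AddCommGroup W]
      [Module (ZMod p) W] [Finite W] (f : Γ →* Module.End (ZMod p) W) (S B : Subgroup Γ) (y : W),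
      Nat.card Γ = n → PairHyp f S B y → PairConcl f B y from
    fun {Γ} _ _ {W} _ _ _ {f S B y} P => h _ Γ W f S B y rfl P
  intro n
  induction n using Nat.strong_induction_on with
  | _ n IH =>
  intro Γ _ _ W _ _ _ f S B y hn P
  by_cases hne : ∃ R ≤ S, (∃ a ∈ R, IsQuad f a) ∧ ¬ normalizer (R : Set Γ) ≤ B
  swap
  · push Not at hne
    exact P.concl_of_empty hp hne
  obtain ⟨Y, W', f', hyW, hlt, hf', P'⟩ := P.exists_smaller hne
  obtain ⟨E, θ, j, hE, hj, hact, hrange, h, hh, c, hc0, hc, heig⟩ :=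
    IH _ (hn ▸ hlt) Y W' f' _ _ _ rfl P'
  let eE := (E.equivMapOfInjective Y.subtype Y.subtype_injective).symm
  refine ⟨E.map Y.subtype, θ.comp eE.toMonoidHom, W'.subtype.toAddMonoidHom.comp j, ?_,
    W'.injective_subtype.comp hj, fun e x => ?_, ?_, (h : Γ), hh, c, hc0, hc,
    fun Y₀ hy₀ hinv₀ => ?_⟩
  · rintro _ ⟨k, hk, rfl⟩
    exact hE hk
  · have he : (e : Γ) = ((eE e : Y) : Γ) := by
      conv_lhs => rw [← eE.symm_apply_apply e]
      rfl
    show f (e : Γ) ((j x : W') : W) = _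
    rw [he, ← hf', hact]
    rfl
  · rw [MonoidHom.range_comp, MonoidHom.range_eq_top.mpr eE.surjective, ← MonoidHom.range_eq_map,
      hrange]
  · obtain ⟨v, hv, hv0, hev⟩ := heig (Y₀.comap W'.subtype) hy₀ fun w hw => by
      show ((f' h w : W') : W) ∈ Y₀
      rw [hf']; exact hinv₀ _ hw
    refine ⟨v, hv, fun h => hv0 (Subtype.ext h), ?_⟩
    rw [← hf', hev]
    rfl

end Cfsg.Agent.PLocal.ZJFailure
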