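import Cfsg.Agent.Techniques.SL2.Qd
import Cfsg.Agent.Lib.PLocal.ZJFailure.Pair

/-!
A Borel subgroup of `SL₂(p)` acting on a natural plane shows that `F(p)` is involved.
-/

set_option linter.all false
set_option autoImplicit false

namespace Cfsg.Agent.PLocal.ZJFailure

open Matrix
open scoped MatrixGroups
open Cfsg.Agent.Techniques
open Cfsg.Agent.Techniques.SL2.Qd (aff aff_mul exists_aff_eq involves_of_surj)

variable {p : ℕ} [hp : Fact p.Prime]

theorem aff_mem_fOver {A : SL(2, ZMod p)} (hA : A ∈ upper p) (x : Fin 2 → ZMod p) :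
    aff A x ∈ Cfsg.fOver (ZMod p) :=
  Subgroup.subset_closure ⟨hA, rfl, rfl, rfl⟩

theorem exists_aff_upper_eq {M : SL(3, ZMod p)} (hM : M ∈ Cfsg.fOver (ZMod p)) :
    ∃ A ∈ upper p, ∃ x, aff A x = M := by
  have hqd : M ∈ Cfsg.qd p := by
    refine (Subgroup.closure_le _).2 ?_ hM
    exact fun N hN => Subgroup.subset_closure ⟨hN.2.1, hN.2.2.1, hN.2.2.2⟩
  obtain ⟨A, x, hAx⟩ := exists_aff_eq hqd
  refine ⟨A, ?_, x, hAx⟩
  have key : M.1 1 0 = 0 ∧ M.1 2 0 = 0 ∧ M.1 2 1 = 0 := by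
    clear hqd hAx
    induction hM using Subgroup.closure_induction with
    | mem N hN => exact ⟨hN.1, hN.2.1, hN.2.2.1⟩
    | one => simp
    | mul a b _ _ ha hb =>
      obtain ⟨a1, a2, a3⟩ := ha
      obtain ⟨b1, b2, b3⟩ := hb
      simp [Matrix.mul_apply, Fin.sum_univ_three, a1, a2, a3, b1, b2, b3]
    | inv a _ ha =>
      obtain ⟨a1, a2, a3⟩ := ha
      simp [Matrix.SpecialLinearGroup.coe_inv, Matrix.adjugate_fin_three, a1, a2, a3]
  rw [← hAx] at key
  show A.1 1 0 = 0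
  simpa [aff] using key.1

universe u

variable {X : Type u} [Group X] [Finite X]

theorem involves_fOver (hp2 : p ≠ 2) (K₀ : Subgroup X) (θ : K₀ →* SL(2, ZMod p))
    (hθ : θ.range = upper p) (j : Multiplicative (Fin 2 → ZMod p) →* X)
    (hj : Function.Injective j)
    (hact : ∀ (k : K₀) (x : Fin 2 → ZMod p), (k : X) * j (Multiplicative.ofAdd x) * (k : X)⁻¹ =
      j (Multiplicative.ofAdd ((θ k).1 *ᵥ x))) :
    Cfsg.Involves ↥(Cfsg.fOver (ZMod p)) X := by
  classical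
  set m : SL(2, ZMod p) := SL2.Main.negOne (ZMod p) with hm
  let Zm : Subgroup SL(2, ZMod p) := Subgroup.zpowers m
  have : Zm.Normal := ⟨fun c hc g => by
    obtain ⟨n, rfl⟩ := Subgroup.mem_zpowers_iff.1 hc
    have hc : Commute g (m ^ n) := Commute.zpow_right (SL2.Main.negOne_comm g) n
    rw [hc.eq, mul_inv_cancel_right]
    exact Subgroup.mem_zpowers_iff.2 ⟨n, rfl⟩⟩
  have hZm : Zm ≤ upper p := Subgroup.zpowers_le.2 (by
    show m.1 1 0 = 0
    simp [hm, SL2.Main.negOne])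
  let Z₀ := Zm.comap θ
  have : Fact (Nat.Prime 2) := ⟨Nat.prime_two⟩
  obtain ⟨S⟩ := (inferInstance : Nonempty (Sylow 2 Z₀))
  set SK : Subgroup K₀ := (S : Subgroup Z₀).map Z₀.subtype with hSK
  set N := Subgroup.normalizer (SK : Set K₀) with hN
  have hm2 : orderOf m = 2 :=
    orderOf_eq_prime (by rw [pow_two]; exact SL2.Main.negOne_sq) (SL2.Main.negOne_ne_one p hp2)
  -- `S` contains an element acting as `-1`
  obtain ⟨s, hsS, hs⟩ : ∃ s ∈ SK, θ s = m := by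
    let f : Z₀ →* Zm := θ.subgroupComap Zm
    have hf : Function.Surjective f := by
      rintro ⟨w, hw⟩
      obtain ⟨k, hk⟩ : w ∈ θ.range := by rw [hθ]; exact hZm hw
      exact ⟨⟨k, show θ k ∈ Zm from hk.symm ▸ hw⟩, Subtype.ext hk⟩
    have h2 : IsPGroup 2 Zm := IsPGroup.of_card (n := 1) (by rw [Nat.card_zpowers, hm2, pow_one])
    have hmem : (⟨m, Subgroup.mem_zpowers m⟩ : Zm) ∈ (S.mapSurjective hf : Subgroup Zm) := by
      obtain ⟨Q, hQ⟩ := (h2.to_subgroup (⊤ : Subgroup Zm)).exists_le_sylow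
      have e : (S.mapSurjective hf : Subgroup Zm) = ⊤ := by
        refine ((S.mapSurjective hf).is_maximal' (h2.to_subgroup ⊤) le_top).symm
      rw [e]; exact Subgroup.mem_top _
    obtain ⟨s, hs, hse⟩ := hmem
    exact ⟨s, ⟨s, hs, rfl⟩, congrArg Subtype.val hse⟩
  -- the normaliser covers the quotient
  have hcover : N ⊔ Z₀ = ⊤ := Sylow.normalizer_sup_eq_top S
  have hθN : ∀ y ∈ upper p, ∃ n, θ.comp N.subtype n = y := by
    intro y hy
    obtain ⟨k, rfl⟩ : y ∈ θ.range := by rw [hθ]; exact hy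
    have hk : k ∈ N ⊔ Z₀ := hcover ▸ Subgroup.mem_top k
    rw [Subgroup.mem_sup_of_normal_right] at hk
    obtain ⟨n, hn, zz, hzz, rfl⟩ := hk
    obtain ⟨i, hi⟩ := Subgroup.mem_zpowers_iff.1 (show θ zz ∈ Zm from hzz)
    have hsN : s ∈ N := Subgroup.le_normalizer hsS
    refine ⟨⟨n, hn⟩ * ⟨s, hsN⟩ ^ i, ?_⟩
    simp [hs, hi]
  -- the translations avoid the normaliser
  have hinter : ∀ (k : K₀) (x : Fin 2 → ZMod p), k ∈ N → (k : X) = j (Multiplicative.ofAdd x) →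
      x = 0 := by
    intro k x hk hkx
    have h1 := hact s x
    rw [← hkx, hs] at h1
    have hneg : (m.1 *ᵥ x) = -x := by simp [hm, SL2.Main.negOne, neg_mulVec]
    rw [hneg] at h1
    have hinv : j (Multiplicative.ofAdd (-x)) = (k : X)⁻¹ := by
      rw [ofAdd_neg, map_inv, hkx]
    rw [hinv] at h1
    have h2 : k * s * k⁻¹ * s⁻¹ ∈ SK := mul_mem ((Subgroup.mem_normalizer_iff.1 hk s).1 hsS) (inv_mem hsS)
    have h3 : ((k * s * k⁻¹ * s⁻¹ : K₀) : X) = (k : X) * k := by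
      have e : ((s : K₀) : X) * (k : X)⁻¹ * (s : X)⁻¹ = (k : X) := by
        have := congrArg (fun y => y⁻¹) h1
        simpa [mul_assoc] using this
      calc ((k * s * k⁻¹ * s⁻¹ : K₀) : X) = (k : X) * ((s : X) * (k : X)⁻¹ * (s : X)⁻¹) := by
            simp [mul_assoc]
        _ = _ := by rw [e]
    have hSKp : IsPGroup 2 SK := S.isPGroup'.map _
    obtain ⟨n, hn⟩ := hSKp ⟨_, h2⟩
    have h4 : ((k : X) * k) ^ 2 ^ n = 1 := by
      rw [← h3, ← SubmonoidClass.coe_pow, show (k * s * k⁻¹ * s⁻¹) ^ 2 ^ n = 1 from congrArg Subtype.val hn]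
      rfl
    rw [hkx, ← map_mul, ← map_pow, ← map_one j] at h4
    have h5 := congrArg Multiplicative.toAdd (hj h4)
    rw [toAdd_pow, toAdd_mul, toAdd_one, toAdd_ofAdd] at h5
    have h6 : ((2 ^ n * 2 : ℕ) : ZMod p) • x = 0 := by
      rw [Nat.cast_smul_eq_nsmul, mul_nsmul', two_nsmul]; exact h5
    refine (smul_eq_zero.1 h6).resolve_left ?_
    rw [← pow_succ, Nat.cast_pow]
    exact pow_ne_zero _ (by exact_mod_cast SL2.Basic.two_ne_zero' (F := ZMod p) p hp2)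
  -- the semidirect product
  let K₁ : Subgroup X := N.map K₀.subtype
  have hK₁ : K₁ ≤ K₀ := Subgroup.map_subtype_le N
  let τ : K₁ →* SL(2, ZMod p) := θ.comp (Subgroup.inclusion hK₁)
  have hτ : ∀ y ∈ upper p, ∃ k, τ k = y := fun y hy => by
    obtain ⟨⟨k, hk⟩, rfl⟩ := hθN y hy
    exact ⟨⟨k, k, hk, rfl⟩, rfl⟩
  have hact' : ∀ (k : K₁) (x : Fin 2 → ZMod p), (k : X) * j (Multiplicative.ofAdd x) =
      j (Multiplicative.ofAdd ((τ k).1 *ᵥ x)) * (k : X) := fun k x => by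
    have := hact (Subgroup.inclusion hK₁ k) x
    rw [← mul_inv_eq_iff_eq_mul]
    exact this
  let E : Subgroup X :=
    { carrier := {g | ∃ (x : Fin 2 → ZMod p) (k : K₁), j (Multiplicative.ofAdd x) * (k : X) = g}
      one_mem' := ⟨0, 1, by simp⟩
      mul_mem' := by
        rintro _ _ ⟨x, k, rfl⟩ ⟨y, l, rfl⟩
        refine ⟨x + (τ k).1 *ᵥ y, k * l, ?_⟩
        rw [ofAdd_add, map_mul, Subgroup.coe_mul, mul_assoc, mul_assoc,
          ← mul_assoc (k : X), hact', mul_assoc]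
      inv_mem' := by
        rintro _ ⟨x, k, rfl⟩
        refine ⟨(τ k⁻¹).1 *ᵥ (-x), k⁻¹, ?_⟩
        rw [← hact', ofAdd_neg, map_inv, _root_.mul_inv_rev, Subgroup.coe_inv] }
  have huniq : ∀ (x y : Fin 2 → ZMod p) (k l : K₁),
      j (Multiplicative.ofAdd x) * (k : X) = j (Multiplicative.ofAdd y) * (l : X) →
        x = y ∧ k = l := by
    intro x y k l h
    have h1 : (k : X) * (l : X)⁻¹ = j (Multiplicative.ofAdd (-x + y)) := by
      rw [ofAdd_add, map_mul, ofAdd_neg, map_inv, mul_inv_eq_iff_eq_mul, mul_assoc,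
        eq_inv_mul_iff_mul_eq]
      exact h
    obtain ⟨kk, hkk, hkke⟩ := (k * l⁻¹ : K₁).2
    have h2 := hinter kk (-x + y) hkk (by
      rw [← h1]; exact hkke)
    have hxy : x = y := neg_add_eq_zero.1 h2
    subst hxy
    exact ⟨rfl, Subtype.ext (mul_left_cancel h)⟩
  choose xc kc hc using fun e : E => e.2
  let Φ : E →* ↥(Cfsg.fOver (ZMod p)) := MonoidHom.mk' (fun e => ⟨aff (τ (kc e)) (xc e),
    aff_mem_fOver (show τ (kc e) ∈ upper p by rw [← hθ]; exact ⟨_, rfl⟩) _⟩) (by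
    intro e e'
    apply Subtype.ext
    show aff (τ (kc (e * e'))) (xc (e * e')) = aff (τ (kc e)) (xc e) * aff (τ (kc e')) (xc e')
    obtain ⟨h1, h2⟩ := huniq (xc (e * e')) (xc e + (τ (kc e)).1 *ᵥ xc e') (kc (e * e'))
      (kc e * kc e') (by
        rw [hc, Subgroup.coe_mul, ← hc e, ← hc e', ofAdd_add, map_mul, Subgroup.coe_mul, mul_assoc,
          mul_assoc, ← mul_assoc ((kc e : K₁) : X), hact', mul_assoc])
    rw [aff_mul, h1, h2, map_mul])
  refine involves_of_surj Φ fun M => ?_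
  obtain ⟨A, hA, x, hAx⟩ := exists_aff_upper_eq M.2
  obtain ⟨k, hk⟩ := hτ A hA
  let e : E := ⟨j (Multiplicative.ofAdd x) * (k : X), x, k, rfl⟩
  refine ⟨e, Subtype.ext ?_⟩
  show aff (τ (kc e)) (xc e) = M.1
  obtain ⟨h1, h2⟩ := huniq _ _ _ _ (hc e : _ = j (Multiplicative.ofAdd x) * (k : X))
  rw [h1, h2, hk, hAx]

end Cfsg.Agent.PLocal.ZJFailure
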