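import Mathlib
import Cfsg.Agent.Lib.PLocal.ZJFailure.Control
import Cfsg.Agent.Lib.PLocal.ZJFailure.Pair
import Cfsg.Agent.Lib.PLocal.MaxAbelian

/-!
The module seen at a largest failure of control by the normaliser of `Z(J(S))`.
-/

set_option linter.all false
set_option autoImplicit false

namespace Cfsg.Agent.PLocal.ZJFailure

open Subgroup
open scoped commutatorElement
open Cfsg.Agent.Fusion.SylIn
open Cfsg.Agent.PLocal.MaxAbelian (core family)

universe u

variable {G : Type u} [Group G] [Finite G] {p : ℕ} [Fact p.Prime]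

theorem commutator_mem {D : Subgroup G} {u v : G} (hu : u ∈ normalizer (D : Set G)) (hv : v ∈ D) :
    u * v * u⁻¹ * v⁻¹ ∈ D := mul_mem (conj_mem hu hv) (inv_mem hv)

/-- The module `U / D`. -/
theorem exists_action {M U D : Subgroup G} (hDU : D ≤ U) (hMU : M ≤ normalizer (U : Set G))
    (hMD : M ≤ normalizer (D : Set G)) (hUD : U ≤ normalizer (D : Set G))
    (hexp : ∀ u ∈ U, u ^ p ∈ D) (hcomm : ∀ u ∈ U, ∀ v ∈ U, u * v * u⁻¹ * v⁻¹ ∈ D) :
    ∃ (W : Type u) (_ : AddCommGroup W) (_ : Module (ZMod p) W) (_ : Finite W)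
      (f : M →* Module.End (ZMod p) W) (π : G → W),
      (∀ a ∈ U, ∀ b ∈ U, π (a * b) = π a + π b) ∧ (∀ w, ∃ a ∈ U, π a = w) ∧
      (∀ a ∈ U, π a = 0 ↔ a ∈ D) ∧ ∀ (m : M), ∀ a ∈ U, f m (π a) = π (m * a * (m : G)⁻¹) := by
  classical
  haveI hn : (D.subgroupOf U).Normal := normal_subgroupOf_of_le_normalizer hUD
  letI : CommGroup (↥U ⧸ D.subgroupOf U) :=
    { (inferInstance : Group (↥U ⧸ D.subgroupOf U)) with
      mul_comm := by
        rintro ⟨a⟩ ⟨b⟩
        refine (QuotientGroup.eq (s := D.subgroupOf U)).mpr (mem_subgroupOf.mpr ?_)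
        have h := hcomm _ (inv_mem b.2) _ (inv_mem a.2)
        have e : (((a * b)⁻¹ * (b * a) : U) : G) = (b : G)⁻¹ * (a : G)⁻¹ * (b : G)⁻¹⁻¹ * (a : G)⁻¹⁻¹ := by
          push_cast; group
        rw [e]; exact h }
  have hpx : ∀ x : Additive (↥U ⧸ D.subgroupOf U), p • x = 0 := fun x => by
    obtain ⟨a, ha⟩ := QuotientGroup.mk_surjective (Additive.toMul x)
    apply Additive.toMul.injective
    rw [toMul_nsmul, toMul_zero, ← ha, ← QuotientGroup.mk_pow, QuotientGroup.eq_one_iff,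
      mem_subgroupOf]
    exact hexp a a.2
  letI : Module (ZMod p) (Additive (↥U ⧸ D.subgroupOf U)) := AddCommGroup.zmodModule (n := p) hpx
  let cj : M →* MulAut U := U.normalizerMonoidHom.comp (Subgroup.inclusion hMU)
  have hcj : ∀ (m : M) (a : U), ((cj m a : U) : G) = m * a * (m : G)⁻¹ := fun m a => rfl
  let ψ : M → (↥U ⧸ D.subgroupOf U) →* (↥U ⧸ D.subgroupOf U) := fun m =>
    QuotientGroup.map _ _ (cj m).toMonoidHom fun a ha => by
      rw [Subgroup.mem_comap, mem_subgroupOf]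
      exact (hcj m a).symm ▸ conj_mem (hMD m.2) (mem_subgroupOf.mp ha)
  let f : M →* Module.End (ZMod p) (Additive (↥U ⧸ D.subgroupOf U)) :=
    { toFun := fun m => AddMonoidHom.toZModLinearMap p (MonoidHom.toAdditive (ψ m))
      map_one' := LinearMap.ext fun x => by
        obtain ⟨a, ha⟩ := QuotientGroup.mk_surjective (Additive.toMul x)
        show Additive.ofMul (ψ 1 (Additive.toMul x)) = x
        rw [← ha]
        show Additive.ofMul ((cj 1 a : U) : ↥U ⧸ D.subgroupOf U) = x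
        rw [map_one, MulAut.one_apply, ha, ofMul_toMul]
      map_mul' := fun s t => LinearMap.ext fun x => by
        obtain ⟨a, ha⟩ := QuotientGroup.mk_surjective (Additive.toMul x)
        show Additive.ofMul (ψ (s * t) (Additive.toMul x)) =
          Additive.ofMul (ψ s (ψ t (Additive.toMul x)))
        rw [← ha]
        show Additive.ofMul ((cj (s * t) a : U) : ↥U ⧸ D.subgroupOf U) =
          Additive.ofMul ((cj s (cj t a) : U) : ↥U ⧸ D.subgroupOf U)
        rw [map_mul]; rfl }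
  let π : G → Additive (↥U ⧸ D.subgroupOf U) := fun a =>
    if h : a ∈ U then Additive.ofMul ((⟨a, h⟩ : U) : ↥U ⧸ D.subgroupOf U) else 0
  have hπ : ∀ a, ∀ h : a ∈ U, π a = Additive.ofMul ((⟨a, h⟩ : U) : ↥U ⧸ D.subgroupOf U) :=
    fun a h => dif_pos h
  refine ⟨_, inferInstance, inferInstance, inferInstance, f, π, fun a ha b hb => ?_, fun w => ?_,
    fun a ha => ?_, fun m a ha => ?_⟩
  · rw [hπ a ha, hπ b hb, hπ _ (mul_mem ha hb), ← ofMul_mul, ← QuotientGroup.mk_mul]
    rfl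
  · obtain ⟨a, ha⟩ := QuotientGroup.mk_surjective (Additive.toMul w)
    exact ⟨a, a.2, by rw [hπ a a.2, Subtype.coe_eta, ha, ofMul_toMul]⟩
  · rw [hπ a ha, ofMul_eq_zero, QuotientGroup.eq_one_iff, mem_subgroupOf]
  · rw [hπ a ha, hπ _ (conj_mem (hMU m.2) ha)]
    rfl

/-- What is extracted from a failure of control. -/
structure LocalData (p : ℕ) [Fact p.Prime] (S Z H Q : Subgroup G) where
  M : Subgroup G
  D : Subgroup G
  U : Subgroup G
  y : G
  W : Type u
  [instAdd : AddCommGroup W]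
  [instMod : Module (ZMod p) W]
  [instFin : Finite W]
  f : M →* Module.End (ZMod p) W
  π : G → W
  D_le_Z : D ≤ Z
  D_le_U : D ≤ U
  U_le : U ≤ Q
  M_le : M ≤ normalizer (Q : Set G)
  centralizer_le : centralizer (Q : Set G) ≤ M
  M_le_D : M ≤ normalizer (D : Set G)
  M_le_U : M ≤ normalizer (U : Set G)
  y_mem : y ∈ U ⊓ Z
  add : ∀ a ∈ U, ∀ b ∈ U, π (a * b) = π a + π b
  surj : ∀ w, ∃ a ∈ U, π a = w
  zero_iff : ∀ a ∈ U, π a = 0 ↔ a ∈ D
  act : ∀ (m : M), ∀ a ∈ U, f m (π a) = π (m * a * (m : G)⁻¹)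
  hyp : PairHyp f ((S ⊓ normalizer (Q : Set G)).subgroupOf M) ((Phi H Q).subgroupOf M) (π y)

attribute [instance] LocalData.instAdd LocalData.instMod LocalData.instFin

/-- The subgroup of elements of `N` moving `X` only inside `D`. -/
def stab (N X D : Subgroup G) (hND : N ≤ normalizer (D : Set G)) (hNX : N ≤ normalizer (X : Set G)) :
    Subgroup G where
  carrier := {m | m ∈ N ∧ ∀ q ∈ X, m * q * m⁻¹ * q⁻¹ ∈ D}
  one_mem' := ⟨one_mem _, fun q _ => by simp [one_mem]⟩
  mul_mem' := by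
    rintro a b ⟨ha, ha'⟩ ⟨hb, hb'⟩
    refine ⟨mul_mem ha hb, fun q hq => ?_⟩
    have e : a * b * q * (a * b)⁻¹ * q⁻¹ = a * (b * q * b⁻¹ * q⁻¹) * a⁻¹ * (a * q * a⁻¹ * q⁻¹) := by
      group
    rw [e]
    exact mul_mem (conj_mem (hND ha) (hb' q hq)) (ha' q hq)
  inv_mem' := by
    rintro a ⟨ha, ha'⟩
    refine ⟨inv_mem ha, fun q hq => ?_⟩
    have h := ha' _ (inv_conj_mem (hNX ha) hq)
    have e : a⁻¹ * q * a⁻¹⁻¹ * q⁻¹ = (a * (a⁻¹ * q * a) * a⁻¹ * (a⁻¹ * q * a)⁻¹)⁻¹ := by group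
    rw [e]
    exact inv_mem h

theorem stab_conj {N X D : Subgroup G} {hND : N ≤ normalizer (D : Set G)}
    {hNX : N ≤ normalizer (X : Set G)} {g a : G} (hgN : g ∈ normalizer (N : Set G))
    (hgX : g ∈ normalizer (X : Set G)) (hgD : g ∈ normalizer (D : Set G))
    (ha : a ∈ stab N X D hND hNX) : g * a * g⁻¹ ∈ stab N X D hND hNX := by
  refine ⟨conj_mem hgN ha.1, fun q hq => ?_⟩
  have h := ha.2 _ (inv_conj_mem hgX hq)
  have e : g * a * g⁻¹ * q * (g * a * g⁻¹)⁻¹ * q⁻¹ =
      g * (a * (g⁻¹ * q * g) * a⁻¹ * (g⁻¹ * q * g)⁻¹) * g⁻¹ := by group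
  rw [e]
  exact conj_mem hgD h

theorem exists_localData (hp : p ≠ 2) (S : Sylow p G) {Z Q : Subgroup G}
    (hZ : Z = core 0 (S : Subgroup G))
    (F : Failure p (S : Subgroup G) (normalizer (Z : Set G)) Q) :
    Nonempty (LocalData p (S : Subgroup G) Z (normalizer (Z : Set G)) Q) := by
  classical
  set H := normalizer (Z : Set G) with hH
  set S₀ := (S : Subgroup G) ⊓ normalizer (Q : Set G) with hS₀
  have hZS : Z ≤ (S : Subgroup G) := hZ ▸ MaxAbelian.core_le 0 _
  have hSp : IsPGroup p (S : Subgroup G) := S.2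
  have hQS₀ : Q ≤ S₀ := le_inf F.le le_normalizer
  have hS₀phi : S₀ ≤ Phi H Q := F.S0_le_phi
  -- a minimal group of failure
  let ℳ : Set (Subgroup G) := {X | centralizer (Q : Set G) ⊔ S₀ ≤ X ∧
    X ≤ normalizer (Q : Set G) ∧ ¬ X ≤ Phi H Q}
  obtain ⟨M, ⟨hCM, hMN, hMphi⟩, hmin⟩ := Set.exists_min_image ℳ (fun X => Nat.card X)
    (Set.toFinite _)
    ⟨normalizer (Q : Set G), sup_le (centralizer_le_normalizer _) inf_le_right, le_rfl, F.fails⟩
  have hCQ : centralizer (Q : Set G) ≤ M := le_sup_left.trans hCM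
  have hS₀M : S₀ ≤ M := le_sup_right.trans hCM
  have hQM : Q ≤ M := hQS₀.trans hS₀M
  have hMmin : ∀ X : Subgroup G, centralizer (Q : Set G) ≤ X → S₀ ≤ X → X ≤ M → X ≠ M →
      X ≤ Phi H Q := by
    intro X h1 h2 h3 h4
    by_contra h5
    exact h4 (eq_of_le_of_card_ge h3 (hmin X ⟨sup_le h1 h2, h3.trans hMN, h5⟩))
  have hS₀M' : SylIn p S₀ M := F.local_sylow.mono hS₀M hMN
  have hcore : ∀ N : Subgroup G, N ≤ M → M ≤ normalizer (N : Set G) → N ≤ Phi H Q →
      S₀ ⊓ N ≤ Q := by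
    intro N hNM hMN' hNphi
    have hR := F.eq_of_not_le (R := Q ⊔ S₀ ⊓ N) (M := M) hMN le_sup_left
      (sup_le hQS₀ inf_le_left) (fun s hs => normalizer_sup_le hs.2
        (mem_normalizer_inf (le_normalizer hs) (hMN' (hS₀M hs)))) (fun h => hMphi fun g hg => by
        obtain ⟨k, hk, hkg⟩ := frattini hMN' (hS₀M'.inf_normal hNM hMN') hg
        have hkgM : k * g ∈ M := mul_mem (hNM hk) hg
        have := h (mem_inf.mpr ⟨normalizer_sup_le (hMN hkgM) hkg, hkgM⟩)
        exact (mul_mem_cancel_left (hNphi hk)).mp this)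
    exact le_sup_right.trans hR.le
  -- the ladder
  let 𝒟 : Set (Subgroup G) := {D | D ≤ Z ⊓ Q ∧ (S : Subgroup G) ≤ normalizer (D : Set G) ∧
    M ≤ M ⊓ centralizer (D : Set G) ⊔ S₀}
  obtain ⟨D, ⟨hDZQ, hSD, hDgood⟩, hDmax⟩ := Set.exists_max_image 𝒟 (fun X => Nat.card X)
    (Set.toFinite _) ⟨⊥, bot_le, fun s _ => mem_normalizer_of fun x hx => by
        rw [mem_bot] at hx ⊢; subst hx; group,
      fun m hm => mem_sup_left (mem_inf.mpr ⟨hm, mem_centralizer_iff.mpr fun x hx => by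
        rw [SetLike.mem_coe, mem_bot] at hx; subst hx; simp⟩)⟩
  have hDZ : D ≤ Z := hDZQ.trans inf_le_left
  have hDQ : D ≤ Q := hDZQ.trans inf_le_right
  have hMD : M ≤ normalizer (D : Set G) := hDgood.trans
    (sup_le (inf_le_right.trans (centralizer_le_normalizer _)) (inf_le_left.trans hSD))
  have hDne : D ≠ Z := by
    intro h
    subst h
    exact hMphi (hDgood.trans (sup_le (fun m hm => inf_normalizer_le_phi H Q
      (mem_inf.mpr ⟨centralizer_le_normalizer _ hm.2, hMN hm.1⟩)) hS₀phi))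
  obtain ⟨y, hyZ, hyD, hyp, hys⟩ := exists_central_mod hSp hZS F.le_H hSD
    (lt_of_le_of_ne hDZ hDne)
  have hyD' : ∀ s ∈ (S : Subgroup G), y * s * y⁻¹ * s⁻¹ ∈ D := fun s hs => by
    have e : y * s * y⁻¹ * s⁻¹ = (s * y * s⁻¹ * y⁻¹)⁻¹ := by group
    rw [e]; exact inv_mem (hys s hs)
  have hyS₀ : y ∈ S₀ := mem_inf.mpr ⟨hZS hyZ, mem_normalizer_of fun q hq => by
    have := mul_mem (hDQ (hyD' q (F.le hq))) hq
    simpa [mul_assoc] using this⟩
  have hyQ : y ∈ Q := by
    set N := M ⊓ centralizer (D : Set G) with hN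
    have hND : N ≤ normalizer (D : Set G) := inf_le_left.trans hMD
    have hNQ : N ≤ normalizer (Q : Set G) := inf_le_left.trans hMN
    set K := stab N Q D hND hNQ with hK
    have hMK : M ≤ normalizer (K : Set G) := fun g hg => mem_normalizer_of fun a ha =>
      stab_conj (mem_normalizer_inf (le_normalizer hg) (mem_normalizer_centralizer (hMD hg)))
        (hMN hg) (hMD hg) ha
    have hKM : K ≤ M := fun a ha => (mem_inf.mp ha.1).1
    have hKs := hS₀M'.inf_normal hKM hMK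
    have hKphi : K ≤ Phi H Q := le_of_pPrime hKs (inf_le_left.trans hS₀phi) fun t ht hn =>
      centralizer_le_phi H Q (centralizes_of_stable (hSp.to_le F.le) hDQ (mem_inf.mp ht.1).2
        ht.2 hn)
    refine hcore K hKM hMK hKphi (mem_inf.mpr ⟨hyS₀, mem_inf.mpr ⟨hS₀M hyS₀, ?_⟩,
      fun q hq => hyD' q (F.le hq)⟩)
    refine mem_centralizer_iff.mpr fun d hd => ?_
    rw [hZ] at hyZ hDZ
    exact MaxAbelian.core_comm 0 _ d (hDZ hd) y hyZ
  -- some element of `M` moves `y` modulo `D`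
  have hmove : ∃ m ∈ M, m * y * m⁻¹ * y⁻¹ ∉ D := by
    by_contra hall
    push Not at hall
    set D₁ := D ⊔ zpowers y with hD₁
    have hD₁Z : D₁ ≤ Z ⊓ Q := sup_le hDZQ (zpowers_le.mpr (mem_inf.mpr ⟨hyZ, hyQ⟩))
    have hSD₁ : (S : Subgroup G) ≤ normalizer (D₁ : Set G) := by
      refine le_normalizer_of fun s hs x hx => ?_
      have hle : D₁ ≤ D₁.comap (MulAut.conj s).toMonoidHom := by
        refine sup_le (fun d hd => mem_sup_left (conj_mem (hSD hs) hd)) (zpowers_le.mpr ?_)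
        show s * y * s⁻¹ ∈ D₁
        have := mul_mem (mem_sup_left (T := zpowers y) (hys s hs))
          (mem_sup_right (S := D) (mem_zpowers y))
        simpa using this
      exact hle hx
    have hle : M ≤ M ⊓ centralizer (D₁ : Set G) ⊔ S₀ := by
      refine hDgood.trans (sup_le ?_ le_sup_right)
      set N := M ⊓ centralizer (D : Set G) with hN
      have hMN' : M ≤ normalizer (N : Set G) := fun g hg =>
        mem_normalizer_inf (le_normalizer hg) (mem_normalizer_centralizer (hMD hg))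
      refine le_of_pPrime (hS₀M'.inf_normal inf_le_left hMN') (inf_le_left.trans le_sup_right)
        fun t ht hn => mem_sup_left (mem_inf.mpr ⟨(mem_inf.mp ht).1, ?_⟩)
      refine centralizes_of_stable (hSp.to_le (hD₁Z.trans (inf_le_left.trans hZS))) le_sup_left
        (mem_inf.mp ht).2 (fun q hq => ?_) hn
      let E : Subgroup G :=
        { carrier := {q | q ∈ (S : Subgroup G) ∧ t * q * t⁻¹ * q⁻¹ ∈ D}
          one_mem' := ⟨one_mem _, by simp [one_mem]⟩
          mul_mem' := by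
            rintro a b ⟨ha, ha'⟩ ⟨hb, hb'⟩
            refine ⟨mul_mem ha hb, ?_⟩
            have e : t * (a * b) * t⁻¹ * (a * b)⁻¹ =
                (t * a * t⁻¹ * a⁻¹) * (a * (t * b * t⁻¹ * b⁻¹) * a⁻¹) := by group
            rw [e]
            exact mul_mem ha' (conj_mem (hSD ha) hb')
          inv_mem' := by
            rintro a ⟨ha, ha'⟩
            refine ⟨inv_mem ha, ?_⟩
            have e : t * a⁻¹ * t⁻¹ * a⁻¹⁻¹ = a⁻¹ * (t * a * t⁻¹ * a⁻¹)⁻¹ * a⁻¹⁻¹ := by group
            rw [e]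
            exact conj_mem (hSD (inv_mem ha)) (inv_mem ha') }
      have hD₁E : D₁ ≤ E := sup_le
        (fun d hd => ⟨hZS (hDZ hd), commutator_mem (hMD (mem_inf.mp ht).1) hd⟩)
        (zpowers_le.mpr ⟨hZS hyZ, hall t (mem_inf.mp ht).1⟩)
      exact (hD₁E hq).2
    have := hDmax D₁ ⟨hD₁Z, hSD₁, hle⟩
    have hDD₁ : D = D₁ := eq_of_le_of_card_ge le_sup_left this
    exact hyD (hDD₁.symm ▸ mem_sup_right (mem_zpowers y))
  -- the module
  set U := closure ((D : Set G) ∪ {x | ∃ m ∈ M, m * y * m⁻¹ = x}) with hU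
  have hDU : D ≤ U := fun d hd => subset_closure (Or.inl hd)
  have hyU : y ∈ U := subset_closure (Or.inr ⟨1, one_mem _, by simp⟩)
  have hMU : M ≤ normalizer (U : Set G) := le_normalizer_of fun g hg x hx => by
    have hle : U ≤ U.comap (MulAut.conj g).toMonoidHom := by
      refine (closure_le _).mpr ?_
      rintro z (hz | ⟨m, hm, rfl⟩)
      · exact hDU (conj_mem (hMD hg) hz)
      · refine subset_closure (Or.inr ⟨g * m, mul_mem hg hm, ?_⟩)
        show g * m * y * (g * m)⁻¹ = g * (m * y * m⁻¹) * g⁻¹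
        group
    exact hle hx
  set U₀ := stab Q Q D (fun q hq => hSD (F.le hq)) le_normalizer with hU₀
  have hUU₀ : U ≤ U₀ := by
    refine (closure_le _).mpr ?_
    rintro z (hz | ⟨m, hm, rfl⟩)
    · refine ⟨hDQ hz, fun q hq => ?_⟩
      have e : z * q * z⁻¹ * q⁻¹ = z * (q * z⁻¹ * q⁻¹) := by group
      rw [e]
      exact mul_mem hz (conj_mem (hSD (F.le hq)) (inv_mem (show z ∈ D from hz)))
    · exact stab_conj (hMN hm) (hMN hm) (hMD hm) ⟨hyQ, fun q hq => hyD' q (F.le hq)⟩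
  have hUQ : U ≤ Q := fun u hu => (hUU₀ hu).1
  have hUQD : ∀ u ∈ U, ∀ q ∈ Q, u * q * u⁻¹ * q⁻¹ ∈ D := fun u hu => (hUU₀ hu).2
  have hUD : U ≤ normalizer (D : Set G) := fun u hu => hSD (F.le (hUQ hu))
  have hexp : ∀ u ∈ U, u ^ p ∈ D := by
    haveI : (D.subgroupOf U).Normal := normal_subgroupOf_of_le_normalizer hUD
    suffices h : ∀ u : U, ((u : ↥U ⧸ D.subgroupOf U)) ^ p = 1 from fun u hu => by
      have := h ⟨u, hu⟩
      rw [← QuotientGroup.mk_pow, QuotientGroup.eq_one_iff, mem_subgroupOf] at this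
      exact this
    have hcomm : ∀ a b : U, Commute (a : ↥U ⧸ D.subgroupOf U) b := fun a b => by
      rw [commute_iff_eq, ← QuotientGroup.mk_mul, ← QuotientGroup.mk_mul, QuotientGroup.eq,
        mem_subgroupOf]
      have h := hUQD _ (inv_mem b.2) _ (inv_mem (hUQ a.2))
      have e : (((a * b)⁻¹ * (b * a) : U) : G) =
          (b : G)⁻¹ * (a : G)⁻¹ * (b : G)⁻¹⁻¹ * (a : G)⁻¹⁻¹ := by
        push_cast; group
      rw [e]; exact h
    rintro ⟨u, hu⟩
    induction hu using closure_induction with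
    | mem z hz =>
      rw [← QuotientGroup.mk_pow, QuotientGroup.eq_one_iff, mem_subgroupOf]
      rcases hz with hz | ⟨m, hm, rfl⟩
      · exact pow_mem (show z ∈ D from hz) p
      · show (m * y * m⁻¹) ^ p ∈ D
        rw [conj_pow]
        exact conj_mem (hMD hm) hyp
    | one => exact one_pow p
    | mul a b ha hb iha ihb =>
      show ((⟨a, ha⟩ * ⟨b, hb⟩ : U) : ↥U ⧸ D.subgroupOf U) ^ p = 1
      rw [QuotientGroup.mk_mul, (hcomm _ _).mul_pow, iha, ihb, one_mul]
    | inv a ha iha =>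
      show ((⟨a, ha⟩⁻¹ : U) : ↥U ⧸ D.subgroupOf U) ^ p = 1
      rw [QuotientGroup.mk_inv, inv_pow, iha, inv_one]
  obtain ⟨W, _, _, _, f, π, hadd, hsurj, hzero, hact⟩ :=
    exists_action (p := p) hDU hMU hMD hUD hexp fun u hu v hv => hUQD u hu v (hUQ hv)
  have hπ1 : π 1 = 0 := (hzero 1 (one_mem _)).mpr (one_mem _)
  have hπsub : ∀ a ∈ U, ∀ b ∈ U, π (a * b⁻¹) = π a - π b := by
    intro a ha b hb
    have h := hadd (a * b⁻¹) (mul_mem ha (inv_mem hb)) b hb
    rw [inv_mul_cancel_right] at h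
    rw [h, add_sub_cancel_right]
  have hfm1 : ∀ (m : M), ∀ a ∈ U, (f m - 1) (π a) = π ((m : G) * a * (m : G)⁻¹ * a⁻¹) := by
    intro m a ha
    rw [LinearMap.sub_apply, Module.End.one_apply, hact m a ha,
      hπsub _ (conj_mem (hMU m.2) ha) a ha]
  -- kernel facts
  set Kf := f.ker.map M.subtype with hKf
  have hkerstab : ∀ m : M, m ∈ f.ker ↔ ∀ a ∈ U, (m : G) * a * (m : G)⁻¹ * a⁻¹ ∈ D := by
    intro m
    constructor
    · intro hm a ha
      rw [← hzero _ (mul_mem (conj_mem (hMU m.2) ha) (inv_mem ha)), ← hfm1 m a ha,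
        MonoidHom.mem_ker.mp hm, sub_self, LinearMap.zero_apply]
    · intro h
      refine MonoidHom.mem_ker.mpr (sub_eq_zero.mp (LinearMap.ext fun w => ?_))
      obtain ⟨a, ha, rfl⟩ := hsurj w
      rw [hfm1 m a ha, LinearMap.zero_apply]
      exact (hzero _ (mul_mem (conj_mem (hMU m.2) ha) (inv_mem ha))).mpr (h a ha)
  have hCker : ∀ m : M, (m : G) ∈ centralizer (Q : Set G) → m ∈ f.ker := fun m hm =>
    (hkerstab m).mpr fun a ha => by
      rw [← mem_centralizer_iff.mp hm a (hUQ ha), mul_inv_cancel_right, mul_inv_cancel]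
      exact one_mem _
  have hQker : ∀ m : M, (m : G) ∈ Q → m ∈ f.ker := fun m hm =>
    (hkerstab m).mpr fun a ha => by
      have h := inv_mem (hUQD a ha _ hm)
      have e : (a * (m : G) * a⁻¹ * (m : G)⁻¹)⁻¹ = (m : G) * a * (m : G)⁻¹ * a⁻¹ := by group
      rwa [e] at h
  have hyfix : ∀ s : M, (s : G) ∈ S₀ → f s (π y) = π y := fun s hs => by
    have := hfm1 s y hyU
    rw [LinearMap.sub_apply, Module.End.one_apply, (hzero _ (mul_mem (conj_mem (hMU s.2) hyU)
      (inv_mem hyU))).mpr (hys _ (mem_inf.mp hs).1), sub_eq_zero] at this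
    exact this
  obtain ⟨m₀, hm₀, hm₀y⟩ := hmove
  have hmoved : f ⟨m₀, hm₀⟩ (π y) ≠ π y := fun h => hm₀y <| by
    rw [← hzero _ (mul_mem (conj_mem (hMU hm₀) hyU) (inv_mem hyU))]
    have := hfm1 ⟨m₀, hm₀⟩ y hyU
    rw [LinearMap.sub_apply, Module.End.one_apply, h, sub_self] at this
    exact this.symm
  have hmaxB : ∀ X : Subgroup M, S₀.subgroupOf M ≤ X → f.ker ≤ X → X ≠ ⊤ →
      X ≤ (Phi H Q).subgroupOf M := by
    intro X hSX hkX hX
    refine map_le_iff_le_comap.mp (hMmin (X.map M.subtype)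
      (fun c hc => ⟨⟨c, hCQ hc⟩, hkX (hCker _ hc), rfl⟩)
      (fun s hs => ⟨⟨s, hS₀M hs⟩, hSX hs, rfl⟩) (map_subtype_le X) fun h => hX ?_)
    exact eq_top_iff.mpr fun x _ => (mem_map_iff_mem M.subtype_injective).mp
      (show M.subtype x ∈ X.map M.subtype by rw [h]; exact x.2)
  have hkerphi : f.ker ≤ (Phi H Q).subgroupOf M := by
    have hX : f.ker ⊔ S₀.subgroupOf M ≤ fixer f (π y) :=
      sup_le (ker_le_fixer f _) fun s hs => hyfix s hs
    exact le_sup_left.trans (hmaxB _ le_sup_right le_sup_left fun h =>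
      hmoved (hX (h ▸ mem_top (⟨m₀, hm₀⟩ : M))))
  have hcoreN : ∀ N : Subgroup M, N.Normal → N ≤ (Phi H Q).subgroupOf M →
      ∀ s ∈ N, (s : G) ∈ S₀ → (s : G) ∈ Q := by
    intro N hN hNphi s hs hsS
    refine hcore (N.map M.subtype) (map_subtype_le N) (le_normalizer_of fun g hg x hx => ?_)
      (map_le_iff_le_comap.mpr hNphi) (mem_inf.mpr ⟨hsS, s, hs, rfl⟩)
    obtain ⟨n, hn, rfl⟩ := hx
    exact ⟨⟨g, hg⟩ * n * ⟨g, hg⟩⁻¹, hN.conj_mem _ hn _, rfl⟩
  have hkerQ : ∀ s : M, s ∈ f.ker → (s : G) ∈ S₀ → (s : G) ∈ Q :=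
    hcoreN f.ker inferInstance hkerphi
  -- a quadratic element
  obtain ⟨a, haS₀, haQ, hquad⟩ : ∃ a ∈ S₀, a ∉ Q ∧ ∀ u ∈ U,
      a * (a * u * a⁻¹ * u⁻¹) * a⁻¹ * (a * u * a⁻¹ * u⁻¹)⁻¹ ∈ D := by
    by_cases hS₀S : S₀ = (S : Subgroup G)
    · -- `S` normalises `Q`
      have hSM : (S : Subgroup G) ≤ M := hS₀S ▸ hS₀M
      have hnot : ∃ A ∈ family 0 (S : Subgroup G), ¬ A ≤ Q := by
        by_contra hall
        push Not at hall
        have hfam : family 0 Q = family 0 (S : Subgroup G) := by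
          obtain ⟨A₀, hA₀⟩ := MaxAbelian.family_nonempty 0 (S : Subgroup G)
          ext A
          constructor
          · intro hA
            exact ⟨hA.1.trans F.le, hA.2.1, fun B hB hg => (hA₀.2.2 B hB hg).trans
              (hA.2.2 A₀ (hall A₀ hA₀) hA₀.2.1)⟩
          · intro hA
            exact ⟨hall A hA, hA.2.1, fun B hB hg => hA.2.2 B (hB.trans F.le) hg⟩
        have hZQ : Z = core 0 Q := by rw [hZ, core, core, hfam]
        refine hMphi fun g hg => inf_normalizer_le_phi H Q (mem_inf.mpr ⟨?_, hMN hg⟩)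
        rw [hH, hZQ]
        exact MaxAbelian.normalizer_le_normalizer_core 0 Q (hMN hg)
      obtain ⟨A, ⟨hA, hAQ⟩, hAmax⟩ := Set.exists_max_image
        {A | A ∈ family 0 (S : Subgroup G) ∧ ¬ A ≤ Q} (fun A => Nat.card ↥(A ⊓ U))
        (Set.toFinite _) hnot
      have hUN : U ≤ normalizer (A : Set G) := by
        by_contra hnot'
        have hcomm : ⁅U, U⁆ ≤ A := commutator_le.mpr fun u hu v hv => by
          have : u * v * u⁻¹ * v⁻¹ ∈ A :=
            ((hZ ▸ hDZ : D ≤ core 0 (S : Subgroup G)).trans (sInf_le hA))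
              (hUQD u hu v (hUQ hv))
          exact this
        obtain ⟨A', hA', -, -, hlt, hnU⟩ := MaxAbelian.exists_replacement hp hSp
          (hUQ.trans F.le) (hSM.trans hMU) le_rfl le_normalizer hA hcomm hnot'
        have hA'Q : A' ≤ Q := by_contra fun h => hlt.ne
          (eq_of_le_of_card_ge hlt.le (hAmax A' ⟨hA', h⟩))
        refine hnU ((closure_le _).mpr ?_)
        rintro z (hz | ⟨m, hm, rfl⟩)
        · exact ((hZ ▸ hDZ : D ≤ core 0 (S : Subgroup G)).trans (sInf_le hA')) hz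
        · have hB : cnj m⁻¹ A' ∈ family 0 (S : Subgroup G) := by
            have hle : cnj m⁻¹ A' ≤ Q := (cnj_mono hA'Q).trans
              (cnj_le_iff.mpr fun q hq => conj_mem (hMN (inv_mem hm)) hq)
            refine ⟨hle.trans F.le, hA'.2.1.map _, fun B hB hg => ?_⟩
            rw [card_cnj]
            exact hA'.2.2 B hB hg
          have hy' : y ∈ cnj m⁻¹ A' := sInf_le hB (show y ∈ core 0 (S : Subgroup G) by rw [← hZ]; exact hyZ)
          rw [mem_cnj, inv_inv] at hy'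
          exact hy'
      obtain ⟨a, haA, haQ⟩ := SetLike.not_le_iff_exists.mp hAQ
      have haS₀ : a ∈ S₀ := hS₀S ▸ hA.1 haA
      refine ⟨a, haS₀, haQ, fun u hu => ?_⟩
      have hcA : a * u * a⁻¹ * u⁻¹ ∈ A := by
        have e : a * u * a⁻¹ * u⁻¹ = a * (u * a⁻¹ * u⁻¹) := by group
        rw [e]
        exact mul_mem haA (conj_mem (hUN hu) (inv_mem haA))
      rw [hA.2.1.1 a haA _ hcA, mul_inv_cancel_right, mul_inv_cancel]
      exact one_mem _
    · -- `S` does not normalise `Q`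
      have hlt : S₀ < (S : Subgroup G) := lt_of_le_of_ne inf_le_left hS₀S
      set P := (S : Subgroup G) ⊓ normalizer (S₀ : Set G) with hP
      have hPlt : Nat.card S₀ < Nat.card P := Set.Finite.card_lt_card (Set.toFinite _)
        (SetLike.coe_ssubset_coe.mpr (AbelianFixed.lt_inf_normalizer hSp hlt))
      by_cases hbad : ∃ n, ∃ l : List G, l.length = n ∧ (∀ g ∈ l, g ∈ M ∨ g ∈ P) ∧
          ¬ cnj l.prod U ≤ Q
      swap
      · exfalso
        push Not at hbad
        set Ω := sSup {X | ∃ l : List G, (∀ g ∈ l, g ∈ M ∨ g ∈ P) ∧ X = cnj l.prod U} with hΩ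
        have hΩQ : Ω ≤ Q := sSup_le fun X hX => by
          obtain ⟨l, hl, rfl⟩ := hX
          exact hbad _ l rfl hl
        have hUΩ : U ≤ Ω := le_sSup ⟨[], by simp, by simp [cnj_one]⟩
        have hnorm : ∀ g, g ∈ M ∨ g ∈ P → g ∈ normalizer (Ω : Set G) := fun g hg =>
          mem_normalizer_of fun x hx => by
            have hle : Ω ≤ Ω.comap (MulAut.conj g).toMonoidHom := by
              refine sSup_le fun X hX => map_le_iff_le_comap.mp (le_sSup ?_)
              obtain ⟨l, hl, rfl⟩ := hX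
              exact ⟨g :: l, List.forall_mem_cons.mpr ⟨hg, hl⟩, by
                rw [List.prod_cons]; exact cnj_cnj g l.prod U⟩
            exact hle hx
        set C := (S : Subgroup G) ⊓ centralizer (Ω : Set G) with hC
        have hC₀ : ∀ c ∈ C, c ∈ normalizer (Q : Set G) → c ∈ Q := fun c hc hcN => by
          have hcS₀ : c ∈ S₀ := mem_inf.mpr ⟨(mem_inf.mp hc).1, hcN⟩
          refine hkerQ ⟨c, hS₀M hcS₀⟩ ((hkerstab _).mpr fun u hu => ?_) hcS₀
          show c * u * c⁻¹ * u⁻¹ ∈ D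
          rw [← mem_centralizer_iff.mp (mem_inf.mp hc).2 u (hUΩ hu), mul_inv_cancel_right,
            mul_inv_cancel]
          exact one_mem _
        have hQC : Q ≤ normalizer (C : Set G) := fun q hq =>
          mem_normalizer_inf (le_normalizer (F.le hq))
            (mem_normalizer_centralizer (hnorm q (Or.inl (hQM hq))))
        have hCQ' : C ≤ Q := by
          by_contra h
          have hlt' : Q < Q ⊔ C := lt_of_le_of_ne le_sup_left fun e =>
            h (le_sup_right.trans e.ge)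
          obtain ⟨u, hu, huQ⟩ := SetLike.exists_of_lt (AbelianFixed.lt_inf_normalizer
            (hSp.to_le (sup_le F.le inf_le_left)) hlt')
          have hu1 := (mem_inf.mp hu).1
          rw [← SetLike.mem_coe, Subgroup.coe_mul_of_left_le_normalizer_right _ _ hQC] at hu1
          obtain ⟨q, hq, c, hc, rfl⟩ := hu1
          exact huQ (mul_mem hq
            (hC₀ c hc ((mul_mem_cancel_left (le_normalizer hq)).mp (mem_inf.mp hu).2)))
        have hPS : P ≤ (S : Subgroup G) := inf_le_left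
        have hPnorm : P ≤ normalizer ((Ω ⊔ C : Subgroup G) : Set G) := fun g hg =>
          normalizer_sup_le (hnorm g (Or.inr hg)) (mem_normalizer_inf (le_normalizer (hPS hg))
            (mem_normalizer_centralizer (hnorm g (Or.inr hg))))
        have hMnorm : M ≤ normalizer ((Ω ⊔ C : Subgroup G) : Set G) := fun g hg => by
          have hCeq : C = Q ⊓ centralizer (Ω : Set G) :=
            le_antisymm (le_inf hCQ' inf_le_right) (inf_le_inf_right _ F.le)
          refine normalizer_sup_le (hnorm g (Or.inl hg)) ?_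
          rw [hCeq]
          exact mem_normalizer_inf (hMN hg) (mem_normalizer_centralizer (hnorm g (Or.inl hg)))
        refine F.false_of_normalized hMN hS₀M hMphi (sup_le hΩQ hCQ') ?_ hMnorm
          (F.above _ (sup_le (hΩQ.trans F.le) inf_le_left)
            (hPlt.trans_le (card_le_of_le (le_inf hPS hPnorm)))).1
        intro c hc
        exact mem_sup_right (mem_inf.mpr ⟨(mem_inf.mp (mem_inf.mp hc).1).1,
          centralizer_le (SetLike.coe_subset_coe.mpr le_sup_left) (mem_inf.mp hc).2⟩)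
      obtain ⟨l, hlen, hl, hlQ⟩ := Nat.find_spec hbad
      have hshort : ∀ l' : List G, l'.length < l.length → (∀ g ∈ l', g ∈ M ∨ g ∈ P) →
          cnj l'.prod U ≤ Q := fun l' hlt' hl' => by_contra fun h =>
        Nat.find_min hbad (hlen ▸ hlt') ⟨l', rfl, hl', h⟩
      have hstep : ∀ g, g ∈ M ∨ g ∈ P → cnj g Q ≤ S₀ := by
        rintro g (hg | hg) <;> rw [cnj_le_iff] <;> intro q hq
        · exact hQS₀ (conj_mem (hMN hg) hq)
        · exact conj_mem (mem_inf.mp hg).2 (hQS₀ hq)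
      have hlast : ∀ l' : List G, l'.length = l.length → (∀ g ∈ l', g ∈ M ∨ g ∈ P) →
          cnj l'.prod U ≤ S₀ := by
        intro l' hlen' hl'
        cases l' with
        | nil => simpa [cnj_one] using hUQ.trans hQS₀
        | cons g t =>
          obtain ⟨hg, ht⟩ := List.forall_mem_cons.mp hl'
          rw [List.prod_cons, ← cnj_cnj]
          exact (cnj_mono (hshort t (by rw [← hlen', List.length_cons]; omega) ht)).trans
            (hstep g hg)
      set v := l.prod with hv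
      have hv1 : cnj v U ≤ S₀ := hlast l rfl hl
      have hv2 : cnj v⁻¹ U ≤ S₀ := by
        rw [hv, List.prod_inv_reverse]
        refine hlast _ (by simp) fun g hg => ?_
        simp only [List.mem_reverse, List.mem_map] at hg
        obtain ⟨g', hg', rfl⟩ := hg
        exact (hl g' hg').imp inv_mem inv_mem
      have hvD : v ∈ normalizer (D : Set G) := list_prod_mem fun g hg =>
        (hl g hg).elim (fun h => hMD h) fun h => hSD (mem_inf.mp h).1
      obtain ⟨a, hav, haQ⟩ := SetLike.not_le_iff_exists.mp hlQ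
      refine ⟨a, hv1 hav, haQ, fun u hu => ?_⟩
      have hu' : v⁻¹ * u * v ∈ normalizer (U : Set G) := by
        refine hMU (hS₀M (hv2 ?_))
        rw [mem_cnj]
        simpa [mul_assoc] using hu
      have hcnj : a * u * a⁻¹ * u⁻¹ ∈ cnj v U := by
        have e : a * u * a⁻¹ * u⁻¹ = a * (u * a⁻¹ * u⁻¹) := by group
        rw [e]
        refine mul_mem hav ?_
        have h1 := conj_mem hu' (inv_mem (mem_cnj.mp hav))
        rw [mem_cnj]
        have e2 : v⁻¹ * (u * a⁻¹ * u⁻¹) * v =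
            v⁻¹ * u * v * (v⁻¹ * a * v)⁻¹ * (v⁻¹ * u * v)⁻¹ := by group
        rwa [e2]
      have h2 := hUQD _ (mem_cnj.mp hav) _ (hUQ (mem_cnj.mp hcnj))
      have h3 := conj_mem hvD h2
      generalize a * u * a⁻¹ * u⁻¹ = c at h3 ⊢
      have e3 : a * c * a⁻¹ * c⁻¹ = v * (v⁻¹ * a * v * (v⁻¹ * c * v) * (v⁻¹ * a * v)⁻¹ *
          (v⁻¹ * c * v)⁻¹) * v⁻¹ := by group
      rw [e3]
      exact h3
  refine ⟨{
    M := M
    D := D
    U := U
    y := y
    W := W
    f := f
    π := π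
    D_le_Z := hDZ
    D_le_U := hDU
    U_le := hUQ
    M_le := hMN
    centralizer_le := hCQ
    M_le_D := hMD
    M_le_U := hMU
    y_mem := mem_inf.mpr ⟨hyU, hyZ⟩
    add := hadd
    surj := hsurj
    zero_iff := hzero
    act := hact
    hyp := ?_ }⟩
  refine ⟨?_, fun s hs => hS₀phi hs, fun h => hMphi (subgroupOf_eq_top.mp h), hmaxB,
    fun s hs => hyfix s hs, ⟨⟨m₀, hm₀⟩, hmoved⟩, ?_, ⟨a, hS₀M haS₀⟩, haS₀, ?_, ?_⟩
  · obtain ⟨T, hT⟩ := (sylIn_iff_exists hS₀M).1 hS₀M'
    rw [← hT]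
    exact of_sylow T
  · intro N hN hkN hNle
    refine le_antisymm (hNle.trans (sup_le le_rfl fun s hs => ?_)) hkN
    have hNphi : N ≤ (Phi H Q).subgroupOf M :=
      hNle.trans (sup_le hkerphi (inf_le_right.trans fun s hs => hS₀phi hs))
    exact hQker s (hcoreN N hN hNphi s (mem_inf.mp hs).1 (mem_inf.mp hs).2)
  · intro h
    exact haQ (hkerQ _ (MonoidHom.mem_ker.mpr h) haS₀)
  · refine LinearMap.ext fun w => ?_
    obtain ⟨u, hu, rfl⟩ := hsurj w
    rw [Module.End.mul_apply, hfm1 _ u hu,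
      hfm1 _ _ (mul_mem (conj_mem (hMU (hS₀M haS₀)) hu) (inv_mem hu)), LinearMap.zero_apply]
    exact (hzero _ (by
      have h1 := mul_mem (conj_mem (hMU (hS₀M haS₀)) hu) (inv_mem hu)
      exact mul_mem (conj_mem (hMU (hS₀M haS₀)) h1) (inv_mem h1))).mpr (hquad u hu)

end Cfsg.Agent.PLocal.ZJFailure
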