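import Mathlib
import Cfsg.Prelude.Def_LocalEven
import Cfsg.Agent.Lib.PLocal.ZJFailure.Local
import Cfsg.Agent.Lib.PLocal.ZJFailure.Involves

/-!
The structure of the normaliser of `Z(J(S))` when it does not control strong fusion.
-/

set_option linter.all false
set_option autoImplicit false

namespace Cfsg.Agent.PLocal.ZJFailure

open Subgroup Matrix
open scoped MatrixGroups
open Cfsg.Agent.Techniques
open Cfsg.Agent.Fusion.SylIn

universe u

variable {G : Type u} [Group G] [Finite G] {p : ℕ} [Fact p.Prime]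
variable {S : Sylow p G} {Z H Q : Subgroup G}

namespace LocalData

variable (L : LocalData p (S : Subgroup G) Z H Q)

theorem pi_one : L.π 1 = 0 := (L.zero_iff 1 (one_mem _)).mpr (one_mem _)

theorem pi_inv {a : G} (ha : a ∈ L.U) : L.π a⁻¹ = - L.π a := by
  rw [eq_neg_iff_add_eq_zero, ← L.add _ (inv_mem ha) a ha, inv_mul_cancel, L.pi_one]

theorem pi_pow {a : G} (ha : a ∈ L.U) : ∀ n : ℕ, L.π (a ^ n) = (n : ZMod p) • L.π a
  | 0 => by rw [pow_zero, L.pi_one, Nat.cast_zero, zero_smul]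
  | n + 1 => by
    rw [pow_succ, L.add _ (pow_mem ha n) a ha, pi_pow ha n, Nat.cast_succ, add_smul, one_smul]

theorem U_le_normalizer : L.U ≤ normalizer (L.D : Set G) := le_normalizer_of fun u hu d hd => by
  rw [← L.zero_iff _ (mul_mem (mul_mem hu (L.D_le_U hd)) (inv_mem hu)),
    L.add _ (mul_mem hu (L.D_le_U hd)) _ (inv_mem hu), L.add u hu d (L.D_le_U hd),
    L.pi_inv hu, (L.zero_iff d (L.D_le_U hd)).mpr hd, add_zero, add_neg_cancel]

end LocalData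

theorem involves_part (hp : p ≠ 2) (hSH : (S : Subgroup G) ≤ H) (hQS : Q ≤ (S : Subgroup G))
    (L : LocalData p (S : Subgroup G) Z H Q) {E : Subgroup L.M}
    (θ : E →* SL(2, ZMod p)) (j₀ : (Fin 2 → ZMod p) →+ L.W)
    (hE : E ≤ (Phi H Q).subgroupOf L.M) (hj₀ : Function.Injective j₀)
    (hact : ∀ (e : E) x, L.f e (j₀ x) = j₀ ((θ e).1 *ᵥ x)) (hθ : θ.range = upper p) :
    Cfsg.Involves ↥(Cfsg.fOver (ZMod p)) ↥H := by
  classical
  set N := H ⊓ normalizer (L.D : Set G) with hN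
  haveI : (L.D.subgroupOf N).Normal := normal_subgroupOf_of_le_normalizer inf_le_right
  have hUN : L.U ≤ N := le_inf ((L.U_le.trans hQS).trans hSH) L.U_le_normalizer
  choose w hwU hw using fun x => L.surj (j₀ x)
  let mkN : ↥N →* ↥N ⧸ L.D.subgroupOf N := QuotientGroup.mk' _
  have hmk : ∀ {a b : G} (ha : a ∈ L.U) (hb : b ∈ L.U), L.π a = L.π b →
      mkN ⟨a, hUN ha⟩ = mkN ⟨b, hUN hb⟩ := by
    intro a b ha hb hab
    refine (QuotientGroup.eq (s := L.D.subgroupOf N)).mpr (mem_subgroupOf.mpr ?_)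
    show a⁻¹ * b ∈ L.D
    rw [← L.zero_iff _ (mul_mem (inv_mem ha) hb), L.add _ (inv_mem ha) b hb, L.pi_inv ha, hab,
      neg_add_cancel]
  let j : Multiplicative (Fin 2 → ZMod p) →* ↥N ⧸ L.D.subgroupOf N :=
    MonoidHom.mk' (fun x => mkN ⟨w x.toAdd, hUN (hwU _)⟩) fun x y => by
      rw [← map_mul]
      exact hmk (hwU _) (mul_mem (hwU _) (hwU _))
        (by rw [hw, L.add _ (hwU _) _ (hwU _), hw, hw, toAdd_mul, map_add])
  have hj : Function.Injective j := by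
    refine (injective_iff_map_eq_one j).mpr fun x hx => ?_
    have h1 : w x.toAdd ∈ L.D :=
      mem_subgroupOf.mp ((QuotientGroup.eq_one_iff (N := L.D.subgroupOf N) _).mp hx)
    rw [← L.zero_iff _ (hwU _), hw] at h1
    exact toAdd_eq_zero.mp (hj₀ (h1.trans (map_zero j₀).symm))
  have hEQ : ∀ e : E, ∀ q ∈ Q, ((e : L.M) : G) * q * ((e : L.M) : G)⁻¹ ∈ Q := fun e q hq =>
    conj_mem (L.M_le (e : L.M).2) hq
  let P : Subgroup (↥N × ↥E) :=
    { carrier := {ge | ∀ q ∈ Q, (ge.1 : G) * q * (ge.1 : G)⁻¹ =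
        ((ge.2 : L.M) : G) * q * ((ge.2 : L.M) : G)⁻¹}
      one_mem' := fun q _ => by simp
      mul_mem' := by
        intro a b ha hb q hq
        have e1 := hb q hq
        have e2 := ha _ (hEQ b.2 q hq)
        simp only [Prod.fst_mul, Prod.snd_mul, Subgroup.coe_mul]
        calc (a.1 : G) * b.1 * q * ((a.1 : G) * b.1)⁻¹
            = a.1 * ((b.1 : G) * q * (b.1 : G)⁻¹) * (a.1 : G)⁻¹ := by group
          _ = ((a.2 : L.M) : G) * (((b.2 : L.M) : G) * q * ((b.2 : L.M) : G)⁻¹) *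
              ((a.2 : L.M) : G)⁻¹ := by rw [e1, e2]
          _ = _ := by group
      inv_mem' := by
        intro a ha q hq
        have hq' : ((a.2 : L.M) : G)⁻¹ * q * ((a.2 : L.M) : G) ∈ Q :=
          inv_conj_mem (L.M_le (a.2 : L.M).2) hq
        have e1 := ha _ hq'
        simp only [Prod.fst_inv, Prod.snd_inv, Subgroup.coe_inv]
        calc (a.1 : G)⁻¹ * q * (a.1 : G)⁻¹⁻¹
            = (a.1 : G)⁻¹ * (((a.2 : L.M) : G) * (((a.2 : L.M) : G)⁻¹ * q * ((a.2 : L.M) : G)) *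
                ((a.2 : L.M) : G)⁻¹) * a.1 := by group
          _ = (a.1 : G)⁻¹ * ((a.1 : G) * (((a.2 : L.M) : G)⁻¹ * q * ((a.2 : L.M) : G)) *
                (a.1 : G)⁻¹) * a.1 := by rw [e1]
          _ = _ := by group }
  let α : P →* ↥N ⧸ L.D.subgroupOf N := (mkN.comp (MonoidHom.fst _ _)).comp P.subtype
  let β : P →* SL(2, ZMod p) := (θ.comp (MonoidHom.snd _ _)).comp P.subtype
  have hker : α.rangeRestrict.ker ≤ β.ker := by
    intro ge hge
    rw [MonoidHom.ker_rangeRestrict] at hge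
    have hD : ((ge.1.1 : N) : G) ∈ L.D := mem_subgroupOf.mp
      ((QuotientGroup.eq_one_iff (N := L.D.subgroupOf N) _).mp hge)
    refine MonoidHom.mem_ker.mpr (Classical.GL2.sl_ext (Matrix.ext_iff_mulVec.mpr fun x => hj₀ ?_))
    show j₀ ((θ ge.1.2).1 *ᵥ x) = j₀ ((1 : Matrix (Fin 2) (Fin 2) (ZMod p)) *ᵥ x)
    rw [one_mulVec]
    have hgU := L.D_le_U hD
    rw [← hact, ← hw x, L.act _ _ (hwU x), ← ge.2 _ (L.U_le (hwU x)),
      L.add _ (mul_mem hgU (hwU x)) _ (inv_mem hgU), L.add _ hgU _ (hwU x), L.pi_inv hgU,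
      (L.zero_iff _ hgU).mpr hD, neg_zero, add_zero, zero_add]
  let θ' : α.range →* SL(2, ZMod p) :=
    MonoidHom.liftOfSurjective α.rangeRestrict α.rangeRestrict_surjective ⟨β, hker⟩
  have hθ' : ∀ ge : P, θ' (α.rangeRestrict ge) = θ ge.1.2 := fun ge =>
    MonoidHom.liftOfRightInverse_comp_apply _ _ _ _ _
  have hrange : θ'.range = upper p := by
    rw [← hθ]
    apply le_antisymm
    · rintro _ ⟨k, rfl⟩
      obtain ⟨ge, rfl⟩ := α.rangeRestrict_surjective k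
      exact ⟨ge.1.2, (hθ' ge).symm⟩
    · rintro _ ⟨e, rfl⟩
      obtain ⟨-, x, hx, hxe⟩ := hE e.2
      have hxD : x ∈ normalizer (L.D : Set G) := mem_normalizer_of fun d hd => by
        rw [hxe d (L.U_le (L.D_le_U hd))]
        exact conj_mem (L.M_le_D (e : L.M).2) hd
      exact ⟨_, hθ' ⟨(⟨x, mem_inf.mpr ⟨hx, hxD⟩⟩, e), hxe⟩⟩
  have hmain := involves_fOver hp α.range θ' hrange j hj fun k x => by
    obtain ⟨ge, rfl⟩ := α.rangeRestrict_surjective k
    rw [hθ']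
    show mkN ge.1.1 * mkN ⟨w x, _⟩ * (mkN ge.1.1)⁻¹ = mkN ⟨w ((θ ge.1.2).1 *ᵥ x), _⟩
    rw [← map_mul, ← map_inv, ← map_mul]
    have e := ge.2 _ (L.U_le (hwU x))
    have hU : (ge.1.1 : G) * w x * (ge.1.1 : G)⁻¹ ∈ L.U :=
      e ▸ conj_mem (L.M_le_U (ge.1.2 : L.M).2) (hwU x)
    refine hmk hU (hwU _) ?_
    rw [e, ← L.act _ _ (hwU x), hw, hw, hact]
  exact SL2.Qd.involves_trans (L := N.subgroupOf H)
    (mkN.comp (Subgroup.subgroupOfEquivOfLe (inf_le_left : N ≤ H)).toMonoidHom)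
    ((QuotientGroup.mk'_surjective _).comp (Subgroup.subgroupOfEquivOfLe _).surjective) hmain

theorem cyclic_part (hSH : (S : Subgroup G) ≤ H) (hQS : Q ≤ (S : Subgroup G))
    (hZS : Z ≤ (S : Subgroup G)) (hHZ : H ≤ normalizer (Z : Set G))
    (hZc : ∀ a ∈ Z, ∀ b ∈ Z, a * b = b * a)
    (L : LocalData p (S : Subgroup G) Z H Q) {h : L.M} (hh : h ∈ (Phi H Q).subgroupOf L.M)
    {c : ZMod p} (hc : ∀ k : ℕ, c ^ k = 1 → p - 1 ∣ k)
    (heig : ∀ Y : Submodule (ZMod p) L.W, L.π L.y ∈ Y → (∀ w ∈ Y, L.f h w ∈ Y) →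
      ∃ v ∈ Y, v ≠ 0 ∧ L.f h v = c • v) :
    ∃ C : Subgroup G, C ≤ Z ∧ Nat.card C = p ∧
      (H ⊓ centralizer (C : Set G)).relIndex (H ⊓ normalizer (C : Set G)) = p - 1 := by
  classical
  obtain ⟨-, x, hxH, hxh⟩ := hh
  let Y : AddSubgroup L.W :=
    { carrier := {w | ∃ a ∈ L.U ⊓ Z, L.π a = w}
      zero_mem' := ⟨1, one_mem _, L.pi_one⟩
      add_mem' := by
        rintro _ _ ⟨a, ha, rfl⟩ ⟨b, hb, rfl⟩
        exact ⟨a * b, mul_mem ha hb, L.add a ha.1 b hb.1⟩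
      neg_mem' := by
        rintro _ ⟨a, ha, rfl⟩
        exact ⟨a⁻¹, inv_mem ha, L.pi_inv ha.1⟩ }
  have hhU : ∀ a ∈ L.U, x * a * x⁻¹ ∈ L.U := fun a ha => by
    rw [hxh a (L.U_le ha)]; exact conj_mem (L.M_le_U h.2) ha
  have hfx : ∀ a ∈ L.U, L.f h (L.π a) = L.π (x * a * x⁻¹) := fun a ha => by
    rw [L.act h a ha, hxh a (L.U_le ha)]; rfl
  obtain ⟨v, ⟨z, hz, rfl⟩, hv0, hev⟩ := heig (AddSubgroup.toZModSubmodule p Y)
    ⟨L.y, L.y_mem, rfl⟩ fun w hw => by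
      obtain ⟨a, ha, rfl⟩ := hw
      exact ⟨x * a * x⁻¹, mem_inf.mpr ⟨hhU a ha.1, conj_mem (hHZ hxH) ha.2⟩, (hfx a ha.1).symm⟩
  set n := c.val with hn
  have hncast : (n : ZMod p) = c := ZMod.natCast_zmod_val c
  have hzD : z ∉ L.D := fun hD => hv0 ((L.zero_iff z hz.1).mpr hD)
  have hzmod : x * z * x⁻¹ * (z ^ n)⁻¹ ∈ L.D := by
    rw [← L.zero_iff _ (mul_mem (hhU z hz.1) (inv_mem (pow_mem hz.1 n))),
      L.add _ (hhU z hz.1) _ (inv_mem (pow_mem hz.1 n)), L.pi_inv (pow_mem hz.1 n),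
      L.pi_pow hz.1, hncast, ← hfx z hz.1, hev, add_neg_cancel]
  have hxD : ∀ d ∈ L.D, x * d * x⁻¹ ∈ L.D := fun d hd => by
    rw [hxh d (L.U_le (L.D_le_U hd))]; exact conj_mem (L.M_le_D h.2) hd
  -- the twisted map on `Z`
  let φ : Z →* Z := MonoidHom.mk'
    (fun t => ⟨x * t * x⁻¹, conj_mem (hHZ hxH) t.2⟩ * (t ^ n)⁻¹) fun s t => Subtype.ext (by
      simp only [Subgroup.coe_mul, Subgroup.coe_inv, SubmonoidClass.coe_pow]
      rw [(show Commute (s : G) (t : G) from hZc s s.2 t t.2).mul_pow, _root_.mul_inv_rev]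
      have e := hZc ((s : G) ^ n)⁻¹ (inv_mem (pow_mem s.2 n)) (x * t * x⁻¹ * ((t : G) ^ n)⁻¹)
        (mul_mem (conj_mem (hHZ hxH) t.2) (inv_mem (pow_mem t.2 n)))
      calc x * (↑s * ↑t) * x⁻¹ * (((t : G) ^ n)⁻¹ * ((s : G) ^ n)⁻¹)
          = x * s * x⁻¹ * (x * t * x⁻¹ * ((t : G) ^ n)⁻¹ * ((s : G) ^ n)⁻¹) := by group
        _ = x * s * x⁻¹ * (((s : G) ^ n)⁻¹ * (x * t * x⁻¹ * ((t : G) ^ n)⁻¹)) := by rw [e]
        _ = _ := by group)
  have hφ : ∀ t : Z, (φ t : G) = x * t * x⁻¹ * ((t : G) ^ n)⁻¹ := fun t => rfl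
  have hker : φ.ker ≠ ⊥ := by
    intro hb
    have hinj := (MonoidHom.ker_eq_bot_iff φ).mp hb
    have hle : (L.D.subgroupOf Z).map φ ≤ L.D.subgroupOf Z := by
      rintro _ ⟨d, hd, rfl⟩
      rw [mem_subgroupOf, hφ]
      exact mul_mem (hxD _ hd) (inv_mem (pow_mem (show (d : G) ∈ L.D from hd) n))
    have heq : (L.D.subgroupOf Z).map φ = L.D.subgroupOf Z :=
      eq_of_le_of_card_ge hle (le_of_eq (card_map_of_injective hinj).symm)
    have hmem : φ ⟨z, hz.2⟩ ∈ L.D.subgroupOf Z := hzmod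
    rw [← heq] at hmem
    exact hzD ((mem_map_iff_mem hinj).mp hmem)
  have hdvd : p ∣ Nat.card φ.ker := by
    obtain ⟨k, hk⟩ := IsPGroup.iff_card.mp ((S.2.to_le hZS).to_subgroup φ.ker)
    rcases Nat.eq_zero_or_pos k with rfl | hk0
    · rw [pow_zero] at hk; exact absurd (eq_bot_of_card_eq _ hk) hker
    · exact hk ▸ dvd_pow_self p hk0.ne'
  obtain ⟨t, ht⟩ := exists_prime_orderOf_dvd_card' p hdvd
  set c₀ : G := ((t : Z) : G) with hc₀
  have hord : orderOf c₀ = p := by rw [hc₀, Subgroup.orderOf_coe, Subgroup.orderOf_coe, ht]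
  have hxc : x * c₀ * x⁻¹ = c₀ ^ n := by
    have := congrArg Subtype.val (MonoidHom.mem_ker.mp t.2)
    rw [hφ] at this
    exact mul_inv_eq_one.mp this
  set C := zpowers c₀ with hC
  have hCcard : Nat.card C = p := by rw [hC, Nat.card_zpowers, hord]
  refine ⟨C, zpowers_le.mpr (t : Z).2, hCcard, ?_⟩
  have hxN : x ∈ normalizer (C : Set G) := mem_normalizer_of fun a ha => by
    obtain ⟨k, rfl⟩ := mem_zpowers_iff.mp ha
    rw [← conj_zpow, hxc]
    exact zpow_mem (pow_mem (mem_zpowers c₀) n) k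
  set N := H ⊓ normalizer (C : Set G) with hN
  let ψ : N →* MulAut C :=
    C.normalizerMonoidHom.comp (Subgroup.inclusion (inf_le_right : N ≤ normalizer (C : Set G)))
  have hψ : ∀ (g : N) (a : C), ((ψ g a : C) : G) = g * a * (g : G)⁻¹ := fun g a => rfl
  have hψker : ψ.ker = (H ⊓ centralizer (C : Set G)).subgroupOf N := by
    ext g
    rw [MonoidHom.mem_ker, mem_subgroupOf, mem_inf, mem_centralizer_iff]
    constructor
    · intro hg
      refine ⟨(mem_inf.mp g.2).1, fun a ha => ?_⟩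
      have e : (g : G) * a * (g : G)⁻¹ = a :=
        (hψ g ⟨a, ha⟩).symm.trans (by rw [hg]; rfl)
      rw [mul_inv_eq_iff_eq_mul] at e
      exact e.symm
    · intro hg
      refine MulEquiv.ext fun a => Subtype.ext ?_
      rw [hψ, ← hg.2 a a.2, mul_inv_cancel_right]
      rfl
  rw [relIndex, ← hψker, index_ker]
  haveI : Finite (MulAut C) := Finite.of_injective _ MulEquiv.toEquiv_injective
  have hautcard : Nat.card (MulAut C) = p - 1 := by
    rw [IsCyclic.card_mulAut, hCcard, Nat.totient_prime (Fact.out : p.Prime)]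
  refine le_antisymm ((card_le_card_group ψ.range).trans hautcard.le) ?_
  let xN : N := ⟨x, mem_inf.mpr ⟨hxH, hxN⟩⟩
  have hxk : ∀ k : ℕ, x ^ k * c₀ * (x ^ k)⁻¹ = c₀ ^ n ^ k := by
    intro k
    induction k with
    | zero => simp
    | succ k ih =>
      calc x ^ (k + 1) * c₀ * (x ^ (k + 1))⁻¹ = x * (x ^ k * c₀ * (x ^ k)⁻¹) * x⁻¹ := by
            rw [pow_succ']; group
        _ = (x * c₀ * x⁻¹) ^ n ^ k := by rw [ih, conj_pow]
        _ = _ := by rw [hxc, ← pow_mul, pow_succ, mul_comm]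
  have hdiv : p - 1 ∣ orderOf (ψ xN) := by
    refine hc _ ?_
    have h1 := pow_orderOf_eq_one (ψ xN)
    rw [← map_pow] at h1
    have h2 : x ^ orderOf (ψ xN) * c₀ * (x ^ orderOf (ψ xN))⁻¹ = c₀ := by
      have := hψ (xN ^ orderOf (ψ xN)) ⟨c₀, mem_zpowers c₀⟩
      rw [h1] at this
      simpa [xN] using this.symm
    rw [hxk] at h2
    have h3 := pow_eq_pow_iff_modEq.mp (h2.trans (pow_one c₀).symm)
    rw [hord, ← ZMod.natCast_eq_natCast_iff, Nat.cast_pow, Nat.cast_one, hncast] at h3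
    exact h3
  have hle := Nat.le_of_dvd (orderOf_pos _) hdiv
  refine hle.trans ?_
  rw [← Nat.card_zpowers]
  exact card_le_of_le (zpowers_le.mpr ⟨xN, rfl⟩)

end Cfsg.Agent.PLocal.ZJFailure
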